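import Groth.Agent.FunFldLib.Hasse.Flag

/-! Coefficients of the Weierstrass divisor. -/

set_option autoImplicit false

open WithZero Submodule
open LocRes (hasseD IsHasseFamily IsExpansionAt)

namespace Groth.Agent.FunFldLib

open FunFld

variable {k K : Type*} [Field k] [Field K] [Algebra k K]

theorem v_D_le (f : LaurentSeries k) (M : ℤ) (h : Valued.v f ≤ exp (-M)) :
    Valued.v (LocRes.D k f) ≤ exp (-(M - 1)) := by
  rw [LaurentSeries.valuation_le_iff_coeff_lt_eq_zero]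
  intro n hn
  rw [LocRes.D_coeff, LaurentSeries.coeff_zero_of_lt_valuation k h (by omega), smul_zero]

theorem vDiff_param (P : Place k K) (Φ : K →ₐ[k] LaurentSeries k) (hΦ : IsExpansionAt P.1 Φ) {t : K}
    (ht : P.1 t = exp (-1)) : Valued.v (LocRes.D k (Φ t)) = 1 := by
  have h1 : Valued.v (LocRes.D k (Φ t)) ≠ 0 := by
    rw [Valuation.ne_zero_iff]
    intro h0
    have hc : (Φ t).coeff 1 = 0 := by
      have h := congrArg (fun f : LaurentSeries k => f.coeff 0) h0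
      rw [LocRes.D_coeff] at h
      simpa using h
    have hv : Valued.v (Φ t) = exp (-1) := by rw [hΦ.1, ht]
    have hle : Valued.v (Φ t) ≤ exp (-(2 : ℤ)) := by
      rw [LaurentSeries.valuation_le_iff_coeff_lt_eq_zero]
      intro n hn
      rcases (show n < 1 ∨ n = 1 by omega) with h' | rfl
      · exact LaurentSeries.coeff_zero_of_lt_valuation k (D := 1) hv.le h'
      · exact hc
    rw [hv, exp_le_exp] at hle
    omega
  have h := ordDiff_param P Φ hΦ ht
  rw [LocRes.ordDiff, LocRes.vDiff, map_one, one_mul, neg_eq_zero] at h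
  rw [← exp_log h1, h, exp_zero]

variable [IsAlgClosed k] (hK : IsFunctionField k K)

section Local

variable (P : Place k K) {t : K} (ht : P.1 t = exp (-1)) {Ht : K →ₐ[k] PowerSeries K}
  (hHt : IsHasseFamily t Ht)
include hK ht hHt

/-- the derivative of an expansion -/
theorem D_expansion (Φ : K →ₐ[k] LaurentSeries k) (hΦ : IsExpansionAt P.1 Φ) (z : K) :
    LocRes.D k (Φ z) = Φ (hasseD Ht 1 z) * LocRes.D k (Φ t) := by
  let e : K → LaurentSeries k := fun z => LocRes.D k (Φ z) - Φ (hasseD Ht 1 z) * LocRes.D k (Φ t)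
  have hadd : ∀ a b, e (a + b) = e a + e b := fun a b => by
    simp only [e, map_add, Hasse.hD_add, add_mul]; abel
  have hmul : ∀ a b, e (a * b) = Φ a * e b + Φ b * e a := fun a b => by
    simp only [e]
    rw [map_mul, Derivation.leibniz, ← Hasse.deriv_apply hHt, (Hasse.deriv hHt).leibniz, Hasse.deriv_apply,
      Hasse.deriv_apply, smul_eq_mul, smul_eq_mul, smul_eq_mul, smul_eq_mul, map_add, map_mul, map_mul]
    ring
  have hC : ∀ c : k, e (algebraMap k K c) = 0 := fun c => by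
    simp only [e, Hasse.hD_algebraMap, LocRes.map_algebraMap, if_neg one_ne_zero, map_zero, zero_mul, sub_zero]
    rw [LocRes.D_apply, LocRes.derivative_C]
  have ht' : e t = 0 := by
    have : hasseD Ht 1 t = 1 := by
      rw [LocRes.hasseD_apply, hHt.1, map_add, PowerSeries.coeff_C, PowerSeries.coeff_one_X]
      simp
    simp only [e, this, map_one, one_mul, sub_self]
  have hp : ∀ m : ℕ, e (t ^ m) = 0 := fun m => by
    induction m with
    | zero => simpa using hC 1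
    | succ m ih => rw [pow_succ, hmul, ih, ht', mul_zero, mul_zero, add_zero]
  have hO : ∀ z, P.1 z ≤ 1 → e z = 0 := fun z hz =>
    eq_zero_of_small hK P ht (fun f : LaurentSeries k => Valued.v f)
      (fun f hf => (map_eq_zero (Valued.v : Valuation (LaurentSeries k) (WithZero (Multiplicative ℤ)))).1 hf) e hadd
      (fun q => by
        induction q using Polynomial.induction_on' with
        | add a b ha hb => rw [map_add, hadd, ha, hb, add_zero]
        | monomial m a => rw [Polynomial.aeval_monomial, hmul, hp, hC, mul_zero, mul_zero, add_zero])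
      1 (fun M u hu => by
        have hz : P.1 (t ^ M * u) ≤ exp (-(M : ℤ)) := by
          rw [map_mul, v_pow P ht]
          exact (mul_le_mul' le_rfl hu).trans_eq (mul_one _)
        refine (Valuation.map_sub _ _ _).trans (max_le ?_ ?_)
        · exact (v_D_le _ (M : ℤ) (by rw [hΦ.1]; exact hz)).trans (exp_le_exp.2 (by omega))
        · rw [map_mul, hΦ.1, vDiff_param P Φ hΦ ht, mul_one]
          exact (hD_order hK P hHt ht hz 1).trans (exp_le_exp.2 (by omega))) hz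
  have h0 : e z = 0 := by
    obtain ⟨m, a, ha, he⟩ := exists_frac P z ht
    have h := hO a ha
    rw [← he, hmul, hp, mul_zero, zero_add] at h
    exact (mul_eq_zero.1 h).resolve_left ((map_ne_zero Φ).2 (pow_ne_zero _ (t_ne_zero P ht)))
  exact sub_eq_zero.1 h0

theorem ordDiff_eq (Φ : K →ₐ[k] LaurentSeries k) (hΦ : IsExpansionAt P.1 Φ) (z : K) :
    LocRes.ordDiff Φ 1 z = P.ord (hasseD Ht 1 z) := by
  rw [LocRes.ordDiff, LocRes.vDiff, map_one, one_mul, D_expansion hK P ht hHt Φ hΦ, map_mul, hΦ.1,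
    vDiff_param P Φ hΦ ht, mul_one]
  rfl

/-- orders at `P` exist -/
theorem exists_ordersAt {n : ℕ} {φ : Fin (n + 1) → K} (hφ : LinearIndependent k φ)
    (heff : (1 : K) ∈ span k (Set.range φ)) (hnorm : ∀ i, P.1 (φ i) ≤ 1) :
    ∃ J : Fin n → ℕ, IsOrders (IsLocalRing.ResidueField P.O) (hcolAt P Ht φ) J := by
  obtain ⟨J, hJ, -⟩ := Jumps.exists_orders (n := n) (hcolAt P Ht φ) (Module.finrank_fin_fun _)
    (fun h => by
      obtain ⟨i, hi⟩ := exists_v_one P φ heff hnorm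
      exact (evalP_ne_zero_iff P hi.le).2 hi (congrFun h i))
    (by
      by_contra hne
      obtain ⟨F, hF, hF0⟩ := Submodule.exists_dual_map_eq_bot_of_lt_top (lt_top_iff_ne_top.2 hne) inferInstance
      choose a ha using fun i : Fin (n + 1) => (residue_bij hK P).2 (F (Pi.single i 1))
      have hFx : ∀ x : Fin (n + 1) → IsLocalRing.ResidueField P.O,
          F x = ∑ i, algebraMap k _ (a i) * x i := fun x => by
        conv_lhs => rw [pi_eq_sum_univ' x]
        rw [map_sum]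
        exact Finset.sum_congr rfl fun i _ => by rw [map_smul, smul_eq_mul, ha, mul_comm]
      set f := ∑ i, a i • φ i with hf
      have hf0 : f ≠ 0 := fun h => hF (LinearMap.ext fun x => by
        simp [hFx, Fintype.linearIndependent_iff.1 hφ a h])
      obtain ⟨m, c, hc, -, hlead⟩ := exists_order hK P ht hf0
        (Valuation.map_sum_le _ fun i _ => (smul_le P _ _).trans (hnorm i))
      have h1 := evalP_hD hK P ht hHt hlead le_rfl
      rw [if_pos rfl, hf, Hasse.hD_sum,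
        Finset.sum_congr rfl (fun l _ => Hasse.hD_smul Ht m (a l) (φ l)),
        evalP_sum_smul P a _ fun l => hD_int hK P hHt ht (hnorm l) m] at h1
      have h2 := (Submodule.eq_bot_iff _).1 hF0 _ ⟨hcolAt P Ht φ (m + 1), subset_span ⟨_, rfl⟩, rfl⟩
      rw [hFx] at h2
      simp only [hcolAt] at h2
      rw [h2] at h1
      exact hc ((map_eq_zero _).1 h1.symm))
  exact ⟨J, hJ⟩

end Local

section MapDiv

variable {n : ℕ}
include hK

omit [IsAlgClosed k] in
theorem mapDiv_apply (φ : Fin (n + 1) → K) (hφ : ∀ i, φ i ≠ 0) (P : Place k K) :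
    mapDiv k φ P = -Finset.univ.inf' Finset.univ_nonempty (fun i => P.ord (φ i)) := by
  classical
  have hfin : (Function.support fun P : Place k K =>
      -Finset.univ.inf' Finset.univ_nonempty (fun i => P.ord (φ i))).Finite := by
    refine (Set.finite_iUnion fun i => finite_ord_support hK.1 (φ i)).subset fun Q hQ => ?_
    rw [Set.mem_iUnion]
    obtain ⟨i, -, hi⟩ := Finset.exists_mem_eq_inf' Finset.univ_nonempty (fun i => Q.ord (φ i))
    refine ⟨i, fun h => hQ ?_⟩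
    show -Finset.univ.inf' Finset.univ_nonempty (fun i => Q.ord (φ i)) = 0
    rw [hi, neg_eq_zero]
    exact h
  rw [mapDiv, dif_pos hfin, Finsupp.ofSupportFinite_coe]

omit [IsAlgClosed k] in
theorem mapDiv_spec (φ : Fin (n + 1) → K) (hφ : ∀ i, φ i ≠ 0) (P : Place k K) :
    (∀ i, P.1 (φ i) ≤ exp (mapDiv k φ P)) ∧ ∃ i, P.1 (φ i) = exp (mapDiv k φ P) := by
  rw [mapDiv_apply hK φ hφ]
  refine ⟨fun i => ?_, ?_⟩
  · rw [v_eq_exp P (hφ i), exp_le_exp, neg_le_neg_iff]
    exact Finset.inf'_le _ (Finset.mem_univ i)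
  · obtain ⟨i, -, hi⟩ := Finset.exists_mem_eq_inf' Finset.univ_nonempty (fun i => P.ord (φ i))
    exact ⟨i, by rw [hi, v_eq_exp P (hφ i)]⟩

omit [IsAlgClosed k] in
theorem mapDiv_unique (φ : Fin (n + 1) → K) (hφ : ∀ i, φ i ≠ 0) (P : Place k K) {m : ℤ}
    (h1 : ∀ i, P.1 (φ i) ≤ exp m) (h2 : ∃ i, P.1 (φ i) = exp m) : mapDiv k φ P = m := by
  obtain ⟨h3, i, hi⟩ := mapDiv_spec hK φ hφ P
  obtain ⟨j, hj⟩ := h2
  have a := h1 i
  have b := h3 j
  rw [hi, exp_le_exp] at a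
  rw [hj, exp_le_exp] at b
  omega

omit [IsAlgClosed k] in
theorem mapDiv_scale (φ : Fin (n + 1) → K) (hφ : ∀ i, φ i ≠ 0) {y : K} (hy : y ≠ 0) (P : Place k K) :
    mapDiv k (y • φ) P = mapDiv k φ P - P.ord y := by
  obtain ⟨h1, i, hi⟩ := mapDiv_spec hK φ hφ P
  refine mapDiv_unique hK _ (fun i => mul_ne_zero hy (hφ i)) P (fun j => ?_) ⟨i, ?_⟩
  · show P.1 (y * φ j) ≤ _
    rw [map_mul, v_eq_exp P hy, sub_eq_add_neg, exp_add, mul_comm (exp (mapDiv k φ P))]
    exact mul_le_mul' le_rfl (h1 j)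
  · show P.1 (y * φ i) = _
    rw [map_mul, v_eq_exp P hy, hi, ← exp_add]
    ring_nf

omit [IsAlgClosed k] in
theorem mapDiv_span (φ φ' : Fin (n + 1) → K) (hφ : ∀ i, φ i ≠ 0) (hφ' : ∀ i, φ' i ≠ 0)
    (h : span k (Set.range φ') = span k (Set.range φ)) : mapDiv k φ' = mapDiv k φ := by
  ext P
  have key : ∀ a b : Fin (n + 1) → K, (∀ i, a i ≠ 0) → (∀ i, b i ≠ 0) →
      span k (Set.range a) ≤ span k (Set.range b) → mapDiv k a P ≤ mapDiv k b P := by
    intro a b ha hb hab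
    obtain ⟨-, i, hi⟩ := mapDiv_spec hK a ha P
    obtain ⟨c, hc⟩ := (mem_span_range_iff_exists_fun k).1 (hab (subset_span ⟨i, rfl⟩))
    have hle : P.1 (a i) ≤ exp (mapDiv k b P) := by
      rw [← hc]
      exact Valuation.map_sum_le _ fun j _ => (smul_le P _ _).trans ((mapDiv_spec hK b hb P).1 j)
    rwa [hi, exp_le_exp] at hle
  exact le_antisymm (key _ _ hφ' hφ h.le) (key _ _ hφ hφ' h.ge)

end MapDiv

section Coeff

variable {n : ℕ} {φ : Fin (n + 1) → K} (hφ : LinearIndependent k φ) (τ : K →ₐ[k] K)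
variable {s : K} {H : K →ₐ[k] PowerSeries K} (hH : IsHasseFamily s H)
variable {Φ : Place k K → (K →ₐ[k] LaurentSeries k)} (hΦ : ∀ P : Place k K, IsExpansionAt P.1 (Φ P))
include hK hH hΦ

theorem finite_divDiff : (Function.support fun P : Place k K => LocRes.ordDiff (Φ P) 1 s).Finite := by
  refine (finite_bad hK hH).subset fun P hP hex => ?_
  obtain ⟨c, hc⟩ := hex
  apply hP
  show LocRes.ordDiff (Φ P) 1 s = 0
  rw [ordDiff_eq hK P hc (Hasse.shift hH c) (Φ P) (hΦ P), LocRes.hasseD_apply, hH.1]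
  simp [ord_one]

include hφ

/-- the coefficient in a local parameter, after any rescaling -/
theorem wDiv_apply {J : Fin n → ℕ} (hJ : IsOrders K (hcol τ H φ) J) (P : Place k K) {t : K}
    (ht : P.1 t = exp (-1)) {Ht : K →ₐ[k] PowerSeries K} (hHt : IsHasseFamily t Ht) {y : K} (hy : y ≠ 0) :
    (wrMat τ Ht (y • φ) J).det ≠ 0 ∧
    wDiv τ H Φ s φ J P =
      P.ord (wrMat τ Ht (y • φ) J).det + mapDiv k (τ ∘ (y • φ)) P + n * mapDiv k (y • φ) P := by
  classical
  have hne : (wrMat τ H φ J).det ≠ 0 := by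
    obtain ⟨J2, hJ2, hd2⟩ := exists_orders_hcol hK hH hφ τ
    have : J = J2 := hJ.1.range_inj hJ2.1 |>.1 (Set.ext fun j => (hJ.2 j).trans (hJ2.2 j).symm)
    exact this ▸ hd2
  obtain ⟨ρ, h0, h1, -, h2, -⟩ := change_var hK hH hHt
  have hd : hasseD Ht 1 s ≠ 0 := h2 ▸ h1
  have hJt := (orders_var τ φ hK hH hHt J).2 hJ
  have hτy : τ y ≠ 0 := (map_ne_zero τ).2 hy
  have hd1 : (wrMat τ Ht φ J).det = hasseD Ht 1 s ^ (∑ l, J l) * (wrMat τ H φ J).det :=
    det_var τ φ hK hH hHt J hJ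
  have hd2 := det_scale τ hHt φ y J hJt
  rw [hd1] at hd2
  have hne1 : hasseD Ht 1 s ^ (∑ l, J l) * (wrMat τ H φ J).det ≠ 0 := mul_ne_zero (pow_ne_zero _ hd) hne
  refine ⟨hd2 ▸ mul_ne_zero (mul_ne_zero hτy (pow_ne_zero _ hy)) hne1, ?_⟩
  have hnz : ∀ i, φ i ≠ 0 := fun i => hφ.ne_zero i
  have hnz' : ∀ i, (τ ∘ φ) i ≠ 0 := fun i => (map_ne_zero τ).2 (hnz i)
  have e1 : τ ∘ (y • φ) = τ y • (τ ∘ φ) := funext fun i => map_mul τ _ _
  rw [hd2, ord_mul P (mul_ne_zero hτy (pow_ne_zero _ hy)) hne1, ord_mul P hτy (pow_ne_zero _ hy),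
    ord_pow P hy, ord_mul P (pow_ne_zero _ hd) hne, ord_pow P hd, e1, mapDiv_scale hK _ hnz' hτy,
    mapDiv_scale hK _ hnz hy, wDiv, divDiff, dif_pos (finite_divDiff hK hH hΦ)]
  simp only [Finsupp.add_apply, Finsupp.smul_apply, div_apply hK.1, Finsupp.ofSupportFinite_coe,
    ordDiff_eq hK P ht hHt (Φ P) (hΦ P), smul_eq_mul]
  push_cast
  ring

omit [IsAlgClosed k] hH hΦ in
/-- a rescaling normalized at `P` -/
theorem exists_normalized (P : Place k K) :
    ∃ y : K, y ≠ 0 ∧ (∀ i, P.1 ((y • φ) i) ≤ 1) ∧ (1 : K) ∈ span k (Set.range (y • φ)) ∧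
      mapDiv k (y • φ) P = 0 ∧ LinearIndependent k (y • φ) := by
  obtain ⟨h1, i, hi⟩ := mapDiv_spec hK φ (fun i => hφ.ne_zero i) P
  have hy : (φ i)⁻¹ ≠ 0 := inv_ne_zero (hφ.ne_zero i)
  refine ⟨(φ i)⁻¹, hy, fun j => ?_, subset_span ⟨i, inv_mul_cancel₀ (hφ.ne_zero i)⟩, ?_, ?_⟩
  · rw [Pi.smul_apply, smul_eq_mul, map_mul, map_inv₀, hi]
    exact (mul_le_mul' le_rfl (h1 j)).trans_eq (inv_mul_cancel₀ exp_ne_zero)
  · rw [mapDiv_scale hK φ (fun i => hφ.ne_zero i) hy, ord_inv, Place.ord, hi, log_exp]; ring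
  · exact hφ.map' (LinearMap.mulLeft k (φ i)⁻¹) (LinearMap.ker_eq_bot.2 fun a b h => mul_left_cancel₀ hy h)

omit hφ hH hΦ in
theorem mapDiv_fixed {P : Place k K} (hP : IsFixedPt τ P) (heff : (1 : K) ∈ span k (Set.range φ))
    (hnorm : ∀ i, P.1 (φ i) ≤ 1) : mapDiv k φ P = 0 ∧ mapDiv k (τ ∘ φ) P = 0 := by
  have hint : ∀ i, P.1 ((τ ∘ φ) i) ≤ 1 := fun i => tau_int hK P hP (hnorm i)
  refine ⟨mapDiv_zero P φ hnorm (exists_v_one P φ heff hnorm),
    mapDiv_zero P _ hint (exists_v_one P _ ?_ hint)⟩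
  have h1 := Submodule.mem_map_of_mem (f := τ.toLinearMap) heff
  rw [Submodule.map_span, ← Set.range_comp, AlgHom.toLinearMap_apply, map_one] at h1
  exact h1

theorem wDiv_fixed {P : Place k K} (hP : IsFixedPt τ P) {J : Fin n → ℕ} (hJ : IsOrders K (hcol τ H φ) J) {t : K}
    (ht : P.1 t = exp (-1)) {Ht : K →ₐ[k] PowerSeries K} (hHt : IsHasseFamily t Ht) {y : K} (hy : y ≠ 0)
    (heff : (1 : K) ∈ span k (Set.range (y • φ))) (hnorm : ∀ i, P.1 ((y • φ) i) ≤ 1) :
    (wrMat τ Ht (y • φ) J).det ≠ 0 ∧ wDiv τ H Φ s φ J P = P.ord (wrMat τ Ht (y • φ) J).det := by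
  obtain ⟨h1, h2⟩ := wDiv_apply hK hφ τ hH hΦ hJ P ht hHt hy
  obtain ⟨a, b⟩ := mapDiv_fixed hK (φ := y • φ) τ hP heff hnorm
  exact ⟨h1, by rw [h2, a, b, mul_zero, add_zero, add_zero]⟩

theorem wDiv_nonneg {J : Fin n → ℕ} (hJ : IsOrders K (hcol τ H φ) J) : 0 ≤ wDiv τ H Φ s φ J := by
  classical
  intro P
  obtain ⟨t, -, ht⟩ := exists_exp P (-1)
  obtain ⟨ρ, -, -, Ht, hHt, -⟩ := exists_family hK P ht hH
  obtain ⟨y, hy, hnorm, -, hmd, hli⟩ := exists_normalized hK hφ P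
  obtain ⟨hd, he⟩ := wDiv_apply hK hφ τ hH hΦ hJ P ht hHt hy
  rw [hmd, mul_zero, add_zero] at he
  show (0 : ℤ) ≤ _
  rw [he]
  have hnz : ∀ i, (τ ∘ (y • φ)) i ≠ 0 := fun i => (map_ne_zero τ).2 (hli.ne_zero i)
  set m := mapDiv k (τ ∘ (y • φ)) P
  have hle : P.1 (wrMat τ Ht (y • φ) J).det ≤ exp m := by
    rw [Matrix.det_apply]
    refine Valuation.map_sum_le _ fun σ _ => ?_
    rw [Units.smul_def, zsmul_eq_mul, map_mul, map_prod]
    refine (mul_le_mul' (show P.1 (((Equiv.Perm.sign σ : ℤˣ) : ℤ) : K) ≤ 1 from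
      map_intCast (algebraMap k K) _ ▸ P.2.1 _) le_rfl).trans ?_
    rw [one_mul, Fin.prod_univ_succ]
    refine (mul_le_mul' ?_ (Finset.prod_le_one' fun l _ => ?_)).trans_eq (mul_one _)
    · simp only [wrMat, Matrix.of_apply, Fin.cases_zero]
      exact (mapDiv_spec hK _ hnz P).1 _
    · simp only [wrMat, Matrix.of_apply, Fin.cases_succ]
      exact hD_int hK P hHt ht (hnorm _) _
  rw [v_le_exp_iff P hd] at hle
  omega

end Coeff

end Groth.Agent.FunFldLib
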