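import Groth.Agent.FunFldLib.Hasse.Change

/-! Triangular changes of the Wronskian columns. -/

set_option autoImplicit false

open Submodule Matrix
open LocRes (hasseD IsHasseFamily)

namespace Groth.Agent.FunFldLib

open FunFld

section Flag

variable {R M : Type*} [Field R] [AddCommGroup M] [Module R M] {c c' : ℕ → M} {b : ℕ → R}

theorem span_flag (hb : ∀ i, b i ≠ 0) (h : ∀ i, c' i - b i • c i ∈ span R (c '' Set.Iio i)) (m : ℕ) :
    span R (c' '' Set.Iio m) = span R (c '' Set.Iio m) := by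
  induction m with
  | zero => simp
  | succ m ih =>
    have e : Set.Iio (m + 1) = insert m (Set.Iio m) :=
      Set.ext fun x => by simp only [Set.mem_Iio, Set.mem_insert_iff]; omega
    rw [e, Set.image_insert_eq, Set.image_insert_eq, span_insert, span_insert, ih]
    refine le_antisymm (sup_le ?_ le_sup_right) (sup_le ?_ le_sup_right)
    · rw [span_singleton_le_iff_mem, ← sub_add_cancel (c' m) (b m • c m)]
      exact add_mem (mem_sup_right (h m)) (smul_mem _ _ (mem_sup_left (mem_span_singleton_self _)))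
    · rw [span_singleton_le_iff_mem, ← inv_smul_smul₀ (hb m) (c m), ← sub_sub_cancel (c' m) (b m • c m)]
      exact smul_mem _ _ (sub_mem (mem_sup_left (mem_span_singleton_self _)) (mem_sup_right (h m)))

theorem jump_flag (hb : ∀ i, b i ≠ 0) (h : ∀ i, c' i - b i • c i ∈ span R (c '' Set.Iio i)) (i : ℕ) :
    IsJump R c' i ↔ IsJump R c i := by
  rw [IsJump, IsJump, span_flag hb h]
  refine not_congr ⟨fun hc => ?_, fun hc => ?_⟩
  · have := sub_mem hc (h i)
    rw [sub_sub_cancel] at this
    simpa [inv_smul_smul₀ (hb i)] using smul_mem _ (b i)⁻¹ this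
  · rw [← sub_add_cancel (c' i) (b i • c i)]
    exact add_mem (h i) (smul_mem _ _ hc)

theorem orders_flag (hb : ∀ i, b i ≠ 0) (h : ∀ i, c' i - b i • c i ∈ span R (c '' Set.Iio i))
    {n : ℕ} (J : Fin n → ℕ) : IsOrders R c' J ↔ IsOrders R c J := by
  simp only [IsOrders, jump_flag hb h]

theorem det_flag {n : ℕ} {R : Type*} [Field R] {c c' : ℕ → Fin (n + 1) → R} {b : ℕ → R}
    (h : ∀ i, c' i - b i • c i ∈ span R (c '' Set.Iio i)) {J : Fin n → ℕ} (hJ : IsOrders R c J) :
    (Matrix.of fun i (x : Fin (n + 1)) => c' (Fin.cases 0 (fun l => J l + 1) x) i).det =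
      b 0 * (∏ l, b (J l + 1)) *
        (Matrix.of fun i (x : Fin (n + 1)) => c (Fin.cases 0 (fun l => J l + 1) x) i).det := by
  classical
  set f : Fin (n + 1) → ℕ := fun x => Fin.cases 0 (fun l => J l + 1) x with hf
  have hsub : ∀ x, span R (c '' Set.Iio (f x)) ≤ span R ((c ∘ f) '' Set.Iio x) := by
    intro x
    rw [Jumps.span_jumps, span_le]
    rintro _ ⟨i, ⟨hi, hij⟩, rfl⟩
    rcases i with - | j
    · refine subset_span ⟨0, ?_, rfl⟩
      rcases Fin.eq_zero_or_eq_succ x with rfl | ⟨y, rfl⟩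
      · exact absurd hi (lt_irrefl 0)
      · exact Fin.succ_pos y
    · obtain ⟨l, rfl⟩ := (hJ.2 j).2 hij
      refine subset_span ⟨l.succ, ?_, by simp [hf]⟩
      rcases Fin.eq_zero_or_eq_succ x with rfl | ⟨y, rfl⟩
      · exact absurd hi (Nat.not_lt_zero _)
      · simp only [hf, Fin.cases_succ, add_lt_add_iff_right] at hi
        exact Fin.succ_lt_succ_iff.2 (hJ.1.lt_iff_lt.1 hi)
  have hU : ∀ x, ∃ u : Fin (n + 1) → R, (∀ y, x < y → u y = 0) ∧ u x = b (f x) ∧
      c' (f x) = ∑ y, u y • c (f y) := by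
    intro x
    have := hsub x (h (f x))
    obtain ⟨l, hl, he⟩ := (Finsupp.mem_span_image_iff_linearCombination R).1 this
    rw [Finsupp.mem_supported] at hl
    refine ⟨fun y => (if y = x then b (f x) else 0) + l y, fun y hy => ?_, ?_, ?_⟩
    · simp only [if_neg hy.ne', zero_add]
      by_contra hne
      exact absurd (hl (Finsupp.mem_support_iff.2 hne)) (not_lt.2 hy.le)
    · have : l x = 0 := by
        by_contra hne
        exact lt_irrefl x (hl (Finsupp.mem_support_iff.2 hne))
      simp [this]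
    · rw [Finsupp.linearCombination_apply, Finsupp.sum_fintype _ (fun i a => a • (c ∘ f) i) (fun y => zero_smul _ _)] at he
      simp only [add_smul, Finset.sum_add_distrib, ite_smul, zero_smul, Finset.sum_ite_eq',
        Finset.mem_univ, if_true]
      simp only [Function.comp_apply] at he
      rw [he, add_sub_cancel]
  choose u hu1 hu2 hu3 using hU
  have e : (Matrix.of fun i (x : Fin (n + 1)) => c' (f x) i) =
      (Matrix.of fun i (x : Fin (n + 1)) => c (f x) i) * Matrix.of fun y x => u x y := by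
    ext i x
    simp [Matrix.mul_apply, hu3 x, mul_comm]
  rw [e, Matrix.det_mul, Matrix.det_of_upperTriangular (M := Matrix.of fun y x => u x y) fun y x hxy => hu1 x y hxy]
  simp only [Matrix.of_apply, hu2, Fin.prod_univ_succ]
  simp only [hf, Fin.cases_zero, Fin.cases_succ]
  ring

end Flag

variable {k K : Type*} [Field k] [Field K] [Algebra k K] (τ : K →ₐ[k] K)
variable {s : K} {H : K →ₐ[k] PowerSeries K}

/-- column scalars for a change of scale -/
noncomputable def scaleB (y : K) : ℕ → K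
  | 0 => τ y
  | _ + 1 => y

theorem scaleB_ne_zero {y : K} (hy : y ≠ 0) : ∀ i, scaleB τ y i ≠ 0
  | 0 => fun h => hy ((map_eq_zero τ).1 h)
  | _ + 1 => hy

theorem scale_flag {ι : Type*} (hH : IsHasseFamily s H) (φ : ι → K) (y : K) (i : ℕ) :
    hcol τ H (y • φ) i - scaleB τ y i • hcol τ H φ i ∈ span K (hcol τ H φ '' Set.Iio i) := by
  rcases i with - | j
  · have : hcol τ H (y • φ) 0 = scaleB τ y 0 • hcol τ H φ 0 := funext fun l => by
      simp [hcol, scaleB, map_mul]
    rw [this, sub_self]; exact zero_mem _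
  · have : hcol τ H (y • φ) (j + 1) =
        ∑ p ∈ Finset.range (j + 1), hasseD H (j - p) y • hcol τ H φ (p + 1) := by
      funext l
      simp only [Finset.sum_apply, Pi.smul_apply, smul_eq_mul]
      show hasseD H j (y * φ l) = _
      rw [Hasse.hD_mul, Finset.Nat.sum_antidiagonal_eq_sum_range_succ_mk, ← Finset.sum_range_reflect]
      refine Finset.sum_congr rfl fun p hp => ?_
      rw [Finset.mem_range] at hp
      simp only [hcol, show j + 1 - 1 - p = j - p by omega, show j - (j - p) = p by omega]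
    rw [this, Finset.sum_range_succ, Nat.sub_self, Hasse.hD_zero hH]
    simp only [scaleB, add_sub_cancel_right]
    exact sum_mem fun p hp => smul_mem _ _ (subset_span ⟨p + 1, by
      rw [Finset.mem_range] at hp; exact Set.mem_Iio.2 (by omega), rfl⟩)

theorem orders_scale {n : ℕ} (hH : IsHasseFamily s H) (φ : Fin (n + 1) → K) {y : K} (hy : y ≠ 0)
    (J : Fin n → ℕ) : IsOrders K (hcol τ H (y • φ)) J ↔ IsOrders K (hcol τ H φ) J :=
  orders_flag (scaleB_ne_zero τ hy) (scale_flag τ hH φ y) J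

theorem det_scale {n : ℕ} (hH : IsHasseFamily s H) (φ : Fin (n + 1) → K) (y : K)
    (J : Fin n → ℕ) (hJ : IsOrders K (hcol τ H φ) J) :
    (wrMat τ H (y • φ) J).det = τ y * y ^ n * (wrMat τ H φ J).det := by
  rw [wrMat_eq, wrMat_eq, det_flag (scale_flag τ hH φ y) hJ]
  simp [scaleB]

/-- column scalars for a change of variable -/
noncomputable def varB (ρ : PowerSeries K) : ℕ → K
  | 0 => 1
  | j + 1 => PowerSeries.coeff 1 ρ ^ j

theorem var_flag {ι : Type*} (φ : ι → K) {ρ : PowerSeries K} (hρ : PowerSeries.constantCoeff ρ = 0)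
    {Ht : K →ₐ[k] PowerSeries K} (hc : ∀ z i, hasseD Ht i z =
      ∑ j ∈ Finset.range (i + 1), hasseD H j z * PowerSeries.coeff i (ρ ^ j)) (i : ℕ) :
    hcol τ Ht φ i - varB ρ i • hcol τ H φ i ∈ span K (hcol τ H φ '' Set.Iio i) := by
  rcases i with - | j
  · have : hcol τ Ht φ 0 = varB ρ 0 • hcol τ H φ 0 := by simp [hcol, varB]
    rw [this, sub_self]; exact zero_mem _
  · have : hcol τ Ht φ (j + 1) =
        ∑ p ∈ Finset.range (j + 1), PowerSeries.coeff j (ρ ^ p) • hcol τ H φ (p + 1) := by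
      funext l
      simp only [Finset.sum_apply, Pi.smul_apply, smul_eq_mul]
      show hasseD Ht j (φ l) = _
      rw [hc]
      exact Finset.sum_congr rfl fun p _ => mul_comm _ _
    have hd : PowerSeries.coeff j (ρ ^ j) = PowerSeries.coeff 1 ρ ^ j := by
      obtain ⟨g, rfl⟩ := PowerSeries.X_dvd_iff.2 hρ
      rw [mul_pow, show PowerSeries.coeff j (PowerSeries.X ^ j * g ^ j) =
        PowerSeries.coeff (0 + j) (PowerSeries.X ^ j * g ^ j) by rw [zero_add],
        PowerSeries.coeff_X_pow_mul, PowerSeries.coeff_succ_X_mul,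
        PowerSeries.coeff_zero_eq_constantCoeff_apply, PowerSeries.coeff_zero_eq_constantCoeff_apply, map_pow]
    rw [this, Finset.sum_range_succ, hd]
    simp only [varB, add_sub_cancel_right]
    exact sum_mem fun p hp => smul_mem _ _ (subset_span ⟨p + 1, by
      rw [Finset.mem_range] at hp; exact Set.mem_Iio.2 (by omega), rfl⟩)

theorem change_var [IsAlgClosed k] (hK : IsFunctionField k K) (hH : IsHasseFamily s H) {t : K}
    {Ht : K →ₐ[k] PowerSeries K} (hHt : IsHasseFamily t Ht) :
    ∃ ρ : PowerSeries K, PowerSeries.constantCoeff ρ = 0 ∧ PowerSeries.coeff 1 ρ ≠ 0 ∧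
      PowerSeries.coeff 1 ρ * hasseD H 1 t = 1 ∧ hasseD Ht 1 s = PowerSeries.coeff 1 ρ ∧
      ∀ z i, hasseD Ht i z = ∑ j ∈ Finset.range (i + 1), hasseD H j z * PowerSeries.coeff i (ρ ^ j) := by
  obtain ⟨P, -, hP⟩ := (infinite_places hK).exists_notMem_finite (finite_bad hK hHt)
  simp only [Set.mem_ofPred_eq, not_not] at hP
  obtain ⟨c, hc⟩ := hP
  obtain ⟨ρ, h0, h1, Ht', hHt', hcoef⟩ := exists_family hK P hc hH
  have e : Ht = Ht' := family_unique hK P hc (Hasse.shift hHt c) hHt'
  subst e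
  have h2 : PowerSeries.coeff 1 ρ * hasseD H 1 t = 1 := by
    rw [← h1]
    simp only [LocRes.hasseD_apply, map_sub, H.commutes, PowerSeries.algebraMap_apply, PowerSeries.coeff_C,
      one_ne_zero, if_false, sub_zero]
  refine ⟨ρ, h0, left_ne_zero_of_mul_eq_one h2, h2, ?_, hcoef⟩
  rw [hcoef, Finset.sum_range_succ, Finset.sum_range_one]
  simp only [LocRes.hasseD_apply, hH.1, map_add, PowerSeries.coeff_C, one_ne_zero, if_false,
    PowerSeries.coeff_one_X, zero_add, one_mul, pow_zero, PowerSeries.coeff_one, mul_zero, pow_one]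

theorem orders_var {n : ℕ} (φ : Fin (n + 1) → K) [IsAlgClosed k] (hK : IsFunctionField k K)
    (hH : IsHasseFamily s H) {t : K} {Ht : K →ₐ[k] PowerSeries K} (hHt : IsHasseFamily t Ht)
    (J : Fin n → ℕ) : IsOrders K (hcol τ Ht φ) J ↔ IsOrders K (hcol τ H φ) J := by
  obtain ⟨ρ, h0, h1, -, -, hc⟩ := change_var hK hH hHt
  refine orders_flag (b := varB ρ) (fun i => ?_) (var_flag τ φ h0 hc) J
  rcases i with - | j
  · exact one_ne_zero
  · exact pow_ne_zero _ h1

theorem det_var {n : ℕ} (φ : Fin (n + 1) → K) [IsAlgClosed k] (hK : IsFunctionField k K)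
    (hH : IsHasseFamily s H) {t : K} {Ht : K →ₐ[k] PowerSeries K} (hHt : IsHasseFamily t Ht)
    (J : Fin n → ℕ) (hJ : IsOrders K (hcol τ H φ) J) :
    (wrMat τ Ht φ J).det = hasseD Ht 1 s ^ (∑ l, J l) * (wrMat τ H φ J).det := by
  obtain ⟨ρ, h0, -, -, h2, hc⟩ := change_var hK hH hHt
  rw [wrMat_eq, wrMat_eq, det_flag (var_flag τ φ h0 hc) hJ, h2]
  simp [varB, Finset.prod_pow_eq_pow_sum]

end Groth.Agent.FunFldLib
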