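import Groth.Agent.FunFldLib.Hasse.Weier
import Groth.Agent.FunFldLib.Ext
import Mathlib.FieldTheory.IntermediateField.Basic

/-! Pulling a map back along an endomorphism. -/

set_option autoImplicit false

open WithZero

namespace Groth.Agent.FunFldLib

open FunFld

variable {k K : Type*} [Field k] [Field K] [Algebra k K]

/-- `K` as an extension of itself along `τ` -/
def Tw (_τ : K →ₐ[k] K) := K

variable (τ : K →ₐ[k] K)

noncomputable instance : Field (Tw τ) := inferInstanceAs (Field K)
noncomputable instance : Algebra k (Tw τ) := inferInstanceAs (Algebra k K)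
noncomputable instance : Algebra K (Tw τ) := τ.toRingHom.toAlgebra
instance : IsScalarTower k K (Tw τ) := IsScalarTower.of_algebraMap_eq fun c => (τ.commutes c).symm

theorem finiteDimensional_range [IsAlgClosed k] (hK : IsFunctionField k K) :
    FiniteDimensional τ.fieldRange K := by
  obtain ⟨t, ht, -⟩ := hK.1
  have ht' : Transcendental k (τ t) := fun h => ht ((isAlgebraic_algHom_iff τ τ.injective).1 h)
  have := finite_over hK.1 ht'
  have hle : IntermediateField.adjoin k ({τ t} : Set K) ≤ τ.fieldRange :=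
    IntermediateField.adjoin_simple_le_iff.2 ⟨t, rfl⟩
  let _ : Algebra (IntermediateField.adjoin k ({τ t} : Set K)) τ.fieldRange :=
    (IntermediateField.inclusion hle).toRingHom.toAlgebra
  have : IsScalarTower (IntermediateField.adjoin k ({τ t} : Set K)) τ.fieldRange K :=
    IsScalarTower.of_algebraMap_eq fun _ => rfl
  exact Module.Finite.right (IntermediateField.adjoin k ({τ t} : Set K)) τ.fieldRange K

theorem finrank_Tw [IsAlgClosed k] (hK : IsFunctionField k K) :
    FiniteDimensional K (Tw τ) ∧ Module.finrank K (Tw τ) = Module.finrank τ.fieldRange K := by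
  have := finiteDimensional_range τ hK
  let e : τ.fieldRange ≃+* K := (AlgEquiv.ofInjectiveField τ).toRingEquiv.symm
  have he : (algebraMap K (Tw τ)).comp (e : τ.fieldRange →+* K) =
      (RingEquiv.refl K : K →+* K).comp (algebraMap τ.fieldRange K) := RingHom.ext fun x => by
    obtain ⟨y, rfl⟩ := (AlgEquiv.ofInjectiveField τ).surjective x
    show τ (e ((AlgEquiv.ofInjectiveField τ) y)) = _
    rw [show e ((AlgEquiv.ofInjectiveField τ) y) = y from (AlgEquiv.ofInjectiveField τ).symm_apply_apply y]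
    rfl
  have h1 : Module.finrank τ.fieldRange K = Module.finrank K (Tw τ) :=
    Algebra.finrank_eq_of_equiv_equiv e (RingEquiv.refl K) he
  exact ⟨Module.finite_of_finrank_pos (h1 ▸ Module.finrank_pos), h1.symm⟩

theorem deg_mapDiv_comp [IsAlgClosed k] (hK : IsFunctionField k K) {n : ℕ} (φ : Fin (n + 1) → K)
    (hφ : ∀ i, φ i ≠ 0) :
    (mapDiv k (τ ∘ φ)).deg = (Module.finrank τ.fieldRange K : ℤ) * (mapDiv k φ).deg := by
  obtain ⟨hfin, hrk⟩ := finrank_Tw τ hK
  rw [← hrk, ← deg_conorm (K' := Tw τ) hK]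
  congr 1
  ext Q
  let Q' : Place k (Tw τ) := Q
  obtain ⟨P, e, he, h⟩ := exists_over (K' := Tw τ) hK.1 Q'
  show mapDiv k (τ ∘ φ) Q = (conorm (Tw τ) (mapDiv k φ)) Q'
  rw [conorm_apply hK.1 _ h]
  obtain ⟨h1, i, hi⟩ := mapDiv_spec hK φ hφ P
  have hv : ∀ z : K, Q.1 (τ z) = P.1 z ^ e := h
  refine mapDiv_unique hK (τ ∘ φ) (fun j => (map_ne_zero τ).2 (hφ j)) Q (fun j => ?_) ⟨i, ?_⟩
  · rw [Function.comp_apply, hv, ← nsmul_eq_mul, exp_nsmul]
    exact pow_le_pow_left' (h1 j) e
  · rw [Function.comp_apply, hv, hi, ← exp_nsmul, nsmul_eq_mul]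

end Groth.Agent.FunFldLib
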