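import Groth.Agent.FunFldLib.Hasse.Geometric
import Mathlib.RingTheory.Unramified.Field
import Mathlib.RingTheory.Trace.Basic

/-! Hasse derivatives of Laurent series and expansions at a place. -/

set_option autoImplicit false

open LaurentSeries WithZero
open LocRes (IsHasseFamily IsExpansionAt)

namespace Groth.Agent.FunFldLib.Laurent

variable {F : Type*} [Field F]

local notation "hd" => LaurentSeries.hasseDeriv F (V := F)

theorem coeff_mul_low {A B : ℤ} {f g : F⸨X⸩} (hf : ∀ m < A, f.coeff m = 0) (hg : ∀ m < B, g.coeff m = 0)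
    {m : ℤ} (hm : m < A + B) : (f * g).coeff m = 0 := by
  rw [HahnSeries.coeff_mul]
  refine Finset.sum_eq_zero fun ij hij => ?_
  simp only [Finset.mem_antidiagonal, HahnSeries.mem_support, Finset.mem_vaddAntidiagonal,
    Finset.mem_addAntidiagonal] at hij
  have h1 : A ≤ ij.1 := not_lt.1 fun h => hij.1 (hf _ h)
  have h2 : B ≤ ij.2 := not_lt.1 fun h => hij.2.1 (hg _ h)
  omega

theorem hd_low (n : ℕ) {M : ℤ} {f : F⸨X⸩} (hf : ∀ m < M, f.coeff m = 0) {m : ℤ} (hm : m < M - n) :
    (hd n f).coeff m = 0 := by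
  rw [LaurentSeries.hasseDeriv_coeff, hf _ (by omega), smul_zero]

theorem hd_single_mul (n : ℕ) (a : ℤ) (r : F) (g : F⸨X⸩) :
    hd n (HahnSeries.single a r * g) =
      ∑ ij ∈ Finset.HasAntidiagonal.antidiagonal n, hd ij.1 (HahnSeries.single a r) * hd ij.2 g := by
  refine HahnSeries.ext (funext fun m => ?_)
  rw [LaurentSeries.hasseDeriv_coeff, HahnSeries.coeff_single_mul, HahnSeries.coeff_sum,
    show m + (n : ℤ) = a + (m + n - a) by ring, Ring.add_choose_eq n (Commute.all _ _), Finset.sum_smul]
  refine Finset.sum_congr rfl fun ij hij => ?_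
  have e : ij.1 + ij.2 = n := Finset.HasAntidiagonal.mem_antidiagonal.1 hij
  rw [LaurentSeries.hasseDeriv_single, HahnSeries.coeff_single_mul, LaurentSeries.hasseDeriv_coeff,
    show m - (a - (ij.1 : ℤ)) + (ij.2 : ℤ) = m + n - a by rw [← e]; push_cast; ring,
    show a + (m + (n : ℤ) - a) - a = m + n - a by ring]
  simp only [zsmul_eq_mul, Int.cast_mul]
  ring

/-- the higher product rule -/
theorem hd_mul (n : ℕ) (f g : F⸨X⸩) :
    hd n (f * g) = ∑ ij ∈ Finset.HasAntidiagonal.antidiagonal n, hd ij.1 f * hd ij.2 g := by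
  classical
  let E : F⸨X⸩ → F⸨X⸩ := fun f => hd n (f * g) - ∑ ij ∈ Finset.HasAntidiagonal.antidiagonal n, hd ij.1 f * hd ij.2 g
  suffices ∀ m, (E f).coeff m = 0 from sub_eq_zero.1 (HahnSeries.ext (funext this))
  intro m
  have hadd : ∀ a b, E (a + b) = E a + E b := fun a b => by
    simp only [E, add_mul, map_add, Finset.sum_add_distrib]; ring
  have hsingle : ∀ a r, E (HahnSeries.single a r) = 0 := fun a r => by
    simp only [E, hd_single_mul, sub_self]
  set B := g.order
  have hg : ∀ j < B, g.coeff j = 0 := fun j hj => HahnSeries.coeff_eq_zero_of_lt_order hj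
  set M := m + n + 1 - B + 1
  set P : F⸨X⸩ := ∑ a ∈ Finset.Ico f.order M, HahnSeries.single a (f.coeff a) with hP
  have htail : ∀ j < M, (f - P).coeff j = 0 := by
    intro j hj
    rw [HahnSeries.coeff_sub, hP, HahnSeries.coeff_sum]
    simp only [HahnSeries.coeff_single]
    rw [sub_eq_zero]
    by_cases h : j ∈ Finset.Ico f.order M
    · exact ((Finset.sum_eq_single_of_mem j h fun b _ hb => if_neg (Ne.symm hb)).trans (if_pos rfl)).symm
    · refine Eq.trans ?_ (Finset.sum_eq_zero fun b hb => if_neg fun e : j = b => h (by rw [e]; exact hb)).symm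
      simp only [Finset.mem_Ico, hj, and_true, not_le] at h
      exact HahnSeries.coeff_eq_zero_of_lt_order h
  have hEP : E P = 0 := by
    rw [hP]
    let Eh : F⸨X⸩ →+ F⸨X⸩ := AddMonoidHom.mk' E hadd
    exact (map_sum Eh _ _).trans (Finset.sum_eq_zero fun a _ => hsingle a _)
  rw [show f = (f - P) + P by ring, hadd, hEP, add_zero]
  simp only [E, HahnSeries.coeff_sub, HahnSeries.coeff_sum]
  rw [LaurentSeries.hasseDeriv_coeff, coeff_mul_low htail hg (by omega), smul_zero, zero_sub, neg_eq_zero]
  refine Finset.sum_eq_zero fun ij hij => coeff_mul_low (fun j => hd_low ij.1 htail) (fun j => hd_low ij.2 hg) ?_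
  have e : ij.1 + ij.2 = n := Finset.HasAntidiagonal.mem_antidiagonal.1 hij
  omega

variable {k : Type*} [Field k] [Algebra k F]

theorem algebraMap_eq (c : k) : algebraMap k F⸨X⸩ c = HahnSeries.single 0 (algebraMap k F c) := by
  rw [HahnSeries.algebraMap_apply', PowerSeries.algebraMap_apply, HahnSeries.ofPowerSeries_C, HahnSeries.C_apply]

/-- all Hasse derivatives at once -/
noncomputable def taylor (k : Type*) [Field k] {F : Type*} [Field F] [Algebra k F] :
    F⸨X⸩ →ₐ[k] PowerSeries F⸨X⸩ where
  toFun f := PowerSeries.mk fun n => LaurentSeries.hasseDeriv F n f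
  map_one' := PowerSeries.ext fun n => by
    rw [PowerSeries.coeff_mk, PowerSeries.coeff_one, ← HahnSeries.single_zero_one, LaurentSeries.hasseDeriv_single]
    rcases n with - | n
    · simp
    · rw [Ring.choose_zero_succ, zero_smul, map_zero, if_neg (Nat.succ_ne_zero n)]
  map_mul' f g := PowerSeries.ext fun n => by
    rw [PowerSeries.coeff_mk, PowerSeries.coeff_mul, hd_mul]
    simp
  map_zero' := PowerSeries.ext fun n => by simp
  map_add' f g := PowerSeries.ext fun n => by simp
  commutes' c := PowerSeries.ext fun n => by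
    rw [PowerSeries.coeff_mk, PowerSeries.algebraMap_apply, PowerSeries.coeff_C, algebraMap_eq,
      LaurentSeries.hasseDeriv_single]
    rcases n with - | n
    · simp
    · rw [Ring.choose_zero_succ, zero_smul, map_zero, if_neg (Nat.succ_ne_zero n)]

theorem taylor_coeff (f : F⸨X⸩) (n : ℕ) :
    PowerSeries.coeff n (taylor k f) = LaurentSeries.hasseDeriv F n f := by
  simp [taylor]

/-- apply a derivation of the coefficients -/
noncomputable def coeffDer (δ : Derivation k F F) : F⸨X⸩ →+ F⸨X⸩ where
  toFun f := HahnSeries.map f (δ.toLinearMap.toAddMonoidHom)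
  map_zero' := HahnSeries.ext (funext fun m => by simp)
  map_add' f g := HahnSeries.ext (funext fun m => by simp)

theorem coeffDer_coeff (δ : Derivation k F F) (f : F⸨X⸩) (m : ℤ) : (coeffDer δ f).coeff m = δ (f.coeff m) := rfl

theorem coeffDer_mul (δ : Derivation k F F) (f g : F⸨X⸩) :
    coeffDer δ (f * g) = f * coeffDer δ g + g * coeffDer δ f := by
  refine HahnSeries.ext (funext fun m => ?_)
  have hs : ∀ h : F⸨X⸩, (coeffDer δ h).support ⊆ h.support := fun h j hj => by
    rw [HahnSeries.mem_support, coeffDer_coeff] at hj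
    exact fun h0 => hj (by rw [h0, map_zero])
  rw [mul_comm g, HahnSeries.coeff_add, coeffDer_coeff, HahnSeries.coeff_mul,
    HahnSeries.coeff_mul_right' g.isPWO_support (hs g), HahnSeries.coeff_mul_left' f.isPWO_support (hs f),
    map_sum, ← Finset.sum_add_distrib]
  refine Finset.sum_congr rfl fun ij _ => ?_
  rw [δ.leibniz, smul_eq_mul, smul_eq_mul, coeffDer_coeff, coeffDer_coeff]
  ring

theorem coeffDer_algebraMap (δ : Derivation k F F) (c : k) : coeffDer δ (algebraMap k F⸨X⸩ c) = 0 := by
  refine HahnSeries.ext (funext fun m => ?_)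
  rw [coeffDer_coeff, algebraMap_eq, HahnSeries.coeff_single]
  split_ifs
  · rw [δ.map_algebraMap]; rfl
  · rw [map_zero]; rfl

end Groth.Agent.FunFldLib.Laurent

namespace Groth.Agent.FunFldLib

variable {k K F : Type*} [Field k] [Field K] [Algebra k K] [Field F] [Algebra k F]

theorem coeff_one_ne_zero {f : F⸨X⸩} (hf : Valued.v f = exp (-1 : ℤ)) : f.coeff 1 ≠ 0 := by
  intro h0
  have h1 : ∀ n < (1 : ℤ), f.coeff n = 0 :=
    (LaurentSeries.valuation_le_iff_coeff_lt_eq_zero (K := F) (D := 1)).1 hf.le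
  have h2 : Valued.v f ≤ exp (-2 : ℤ) := (LaurentSeries.valuation_le_iff_coeff_lt_eq_zero (K := F) (D := 2)).2
    fun n hn => by
      rcases eq_or_ne n 1 with rfl | hne
      · exact h0
      · exact h1 n (by omega)
  rw [hf, exp_le_exp] at h2
  omega

variable {φ : K →ₐ[k] F⸨X⸩}

theorem D_uniformizer_ne_zero {w : Valuation K (WithZero (Multiplicative ℤ))} (hφ : IsExpansionAt w φ) {t : K}
    (ht : w t = exp (-1)) : LocRes.D F (φ t) ≠ 0 := fun h => by
  have h1 := congrArg (fun f : F⸨X⸩ => f.coeff 0) h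
  simp only [LocRes.D_coeff, zero_add, one_smul, HahnSeries.coeff_zero] at h1
  exact coeff_one_ne_zero (by rw [hφ.1, ht]) h1

variable (s : K) [Algebra.IsSeparable (IntermediateField.adjoin k ({s} : Set K)) K]
include s

/-- derivations through `φ` are determined by any element with nonzero differential -/
theorem der_eq {x : K} (hx : KaehlerDifferential.D k K x ≠ 0) (d : K →+ F⸨X⸩)
    (hdk : ∀ c, d (algebraMap k K c) = 0) (hd : ∀ a b, d (a * b) = φ a * d b + φ b * d a) :
    (∃ c : K, c ≠ 0 ∧ d x = φ c * d s) ∧ (d x = 0 → ∀ z, d z = 0) := by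
  let _ := φ.toRingHom.toAlgebra
  have := LocRes.isScalarTower_exp φ
  let δ : Derivation k K F⸨X⸩ :=
    { toFun := d
      map_add' := d.map_add
      map_smul' := fun c a => by
        show d (c • a) = c • d a
        rw [Algebra.smul_def, hd, hdk, mul_zero, add_zero, LocRes.map_algebraMap, HahnSeries.C_mul_eq_smul, algebraMap_smul]
      map_one_eq_zero' := by
        show d 1 = 0
        rw [← map_one (algebraMap k K), hdk]
      leibniz' := fun a b => hd a b }
  obtain ⟨c, hc⟩ := kaehler_span (k := k) (s := s) x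
  have hc0 : c ≠ 0 := fun h => hx (by rw [hc, h, zero_smul])
  have h := congrArg δ.liftKaehlerDifferential hc
  rw [map_smul, Derivation.liftKaehlerDifferential_comp_D, Derivation.liftKaehlerDifferential_comp_D] at h
  have h' : d x = φ c * d s := h
  refine ⟨⟨c, hc0, h'⟩, fun h0 z => ?_⟩
  rw [h', mul_eq_zero, map_eq_zero] at h0
  exact derivation_eq_zero_sep δ (h0.resolve_left hc0) z

theorem dExp_ne_zero {w : Valuation K (WithZero (Multiplicative ℤ))} (hφ : IsExpansionAt w φ) {x : K}
    (hx : KaehlerDifferential.D k K x ≠ 0) : LocRes.D F (φ x) ≠ 0 := by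
  intro h0
  obtain ⟨t, ht⟩ := hφ.2.2
  refine D_uniformizer_ne_zero hφ ht ((der_eq (φ := φ) (s := s) hx
    (AddMonoidHom.mk' (fun z => LocRes.D F (φ z)) fun a b => by rw [map_add, map_add]) (fun c => ?_)
    (fun a b => ?_)).2 h0 t)
  · show LocRes.D F (φ _) = 0
    rw [AlgHom.commutes, Laurent.algebraMap_eq, ← HahnSeries.C_apply, LocRes.D_apply, LocRes.derivative_C]
  · show LocRes.D F (φ (a * b)) = _
    rw [map_mul, Derivation.leibniz]; rfl

/-- expansions force the coefficient field to be unramified -/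
theorem coeff_field_der_eq_zero {w : Valuation K (WithZero (Multiplicative ℤ))} (hφ : IsExpansionAt w φ)
    (δ : Derivation k F F) (α : F) : δ α = 0 := by
  obtain ⟨f, hf, rfl⟩ := hφ.2.1 α
  obtain ⟨t, ht⟩ := hφ.2.2
  have hDt : KaehlerDifferential.D k K t ≠ 0 := fun h0 => by
    refine D_uniformizer_ne_zero hφ ht ?_
    let _ := φ.toRingHom.toAlgebra
    have := LocRes.isScalarTower_exp φ
    have h := congrArg (LocRes.dExp φ).liftKaehlerDifferential h0
    rwa [map_zero, Derivation.liftKaehlerDifferential_comp_D] at h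
  obtain ⟨u, hu0⟩ : ∃ u : F⸨X⸩, u = Laurent.coeffDer δ (φ t) / LocRes.D F (φ t) := ⟨_, rfl⟩
  have hD0 := D_uniformizer_ne_zero hφ ht
  let d : K →+ F⸨X⸩ := AddMonoidHom.mk' (fun z => Laurent.coeffDer δ (φ z) - u * LocRes.D F (φ z))
    fun a b => by simp only [map_add]; ring
  have hd := (der_eq (φ := φ) (s := s) hDt d
    (fun c => by
      show _ - u * LocRes.D F (φ _) = 0
      rw [AlgHom.commutes, Laurent.coeffDer_algebraMap, Laurent.algebraMap_eq, ← HahnSeries.C_apply,
        LocRes.D_apply, LocRes.derivative_C, mul_zero, sub_zero])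
    (fun a b => by
      show Laurent.coeffDer δ (φ (a * b)) - u * LocRes.D F (φ (a * b)) = φ a * (_ - _) + φ b * (_ - _)
      rw [map_mul, Laurent.coeffDer_mul, Derivation.leibniz, smul_eq_mul, smul_eq_mul]; ring)).2
    (show _ - u * _ = 0 by rw [hu0, div_mul_cancel₀ _ hD0, sub_self]) f
  have hlow : ∀ g : K, w g ≤ 1 → ∀ m < (0 : ℤ), (φ g).coeff m = 0 := fun g hg =>
    (LaurentSeries.valuation_le_iff_coeff_lt_eq_zero (K := F) (D := 0)).1 (by rw [hφ.1, neg_zero, exp_zero]; exact hg)
  have hDlow : ∀ g : K, w g ≤ 1 → ∀ m < (0 : ℤ), (LocRes.D F (φ g)).coeff m = 0 := fun g hg m hm => by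
    rw [LocRes.D_coeff]
    rcases eq_or_ne m (-1) with rfl | hne
    · norm_num
    · rw [hlow g hg _ (by omega), smul_zero]
  have hδt : ∀ m < (1 : ℤ), (Laurent.coeffDer δ (φ t)).coeff m = 0 := fun m hm => by
    rw [Laurent.coeffDer_coeff,
      (LaurentSeries.valuation_le_iff_coeff_lt_eq_zero (K := F) (D := 1)).1 (by rw [hφ.1, ht]) m hm, map_zero]
  have hinv : ∀ m < (0 : ℤ), ((LocRes.D F (φ t))⁻¹).coeff m = 0 := by
    refine (LaurentSeries.valuation_le_iff_coeff_lt_eq_zero (K := F) (D := 0)).1 ?_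
    rw [map_inv₀, neg_zero, exp_zero]
    refine inv_le_one_of_one_le₀ (not_lt.1 fun hlt => ?_)
    rw [lt_one_iff_le] at hlt
    have h := (LaurentSeries.valuation_le_iff_coeff_lt_eq_zero (K := F) (D := 1)).1 hlt 0 (by norm_num)
    rw [LocRes.D_coeff, zero_add, one_smul] at h
    exact coeff_one_ne_zero (by rw [hφ.1, ht]) h
  have hu : ∀ m < (1 : ℤ), u.coeff m = 0 := fun m hm => by
    rw [hu0, div_eq_mul_inv]
    exact Laurent.coeff_mul_low hδt hinv (by omega)
  have hd' : Laurent.coeffDer δ (φ f) - u * LocRes.D F (φ f) = 0 := hd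
  have h := congrArg (fun v : F⸨X⸩ => v.coeff 0) hd'
  simp only [HahnSeries.coeff_sub, Laurent.coeff_mul_low hu (hDlow f hf) (show (0 : ℤ) < 1 + 0 by norm_num),
    Laurent.coeffDer_coeff, sub_zero, HahnSeries.coeff_zero] at h
  exact h

theorem isSeparable_coeff [FiniteDimensional k F] {w : Valuation K (WithZero (Multiplicative ℤ))}
    (hφ : IsExpansionAt w φ) : Algebra.IsSeparable k F := by
  have hsub : Subsingleton Ω[F⁄k] := by
    refine ⟨fun a b => sub_eq_zero.1 ?_⟩
    have hD : ∀ α : F, KaehlerDifferential.D k F α = 0 := fun α => by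
      refine (Module.forall_dual_apply_eq_zero_iff F _).1 fun l => ?_
      exact coeff_field_der_eq_zero (s := s) hφ (l.compDer (KaehlerDifferential.D k F)) α
    have htop := KaehlerDifferential.span_range_derivation k F
    rw [show Set.range (KaehlerDifferential.D k F) = {0} from
      (Set.range_eq_iff _ _).2 ⟨fun α => hD α, fun b hb => ⟨0, by rw [hb]; exact map_zero _⟩⟩,
      Submodule.span_zero_singleton] at htop
    exact (Submodule.mem_bot F).1 (htop ▸ Submodule.mem_top)
  have : Algebra.FormallyUnramified k F := ⟨hsub⟩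
  exact Algebra.FormallyUnramified.isSeparable k F

/-- homomorphisms into power series over Laurent series are determined by a separating value -/
theorem taylor_unique {A B : K →ₐ[k] PowerSeries F⸨X⸩} {t : K} (ht : KaehlerDifferential.D k K t ≠ 0)
    (hA : ∀ z, PowerSeries.constantCoeff (A z) = φ z) (hB : ∀ z, PowerSeries.constantCoeff (B z) = φ z)
    (hAB : A t = B t) (n : ℕ) : ∀ z, PowerSeries.coeff n (A z) = PowerSeries.coeff n (B z) := by
  induction n using Nat.strong_induction_on with
  | _ n ih =>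
    intro z
    rcases Nat.eq_zero_or_pos n with rfl | hn
    · rw [PowerSeries.coeff_zero_eq_constantCoeff_apply, PowerSeries.coeff_zero_eq_constantCoeff_apply, hA, hB]
    let d : K →+ F⸨X⸩ := AddMonoidHom.mk' (fun y => PowerSeries.coeff n (A y) - PowerSeries.coeff n (B y))
      fun a b => by simp only [map_add]; ring
    refine sub_eq_zero.1 ((der_eq (φ := φ) (s := s) ht d (fun c => ?_) (fun a b => ?_)).2
      (show PowerSeries.coeff n (A t) - PowerSeries.coeff n (B t) = 0 by rw [hAB, sub_self]) z)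
    · show PowerSeries.coeff n (A _) - PowerSeries.coeff n (B _) = 0
      rw [AlgHom.commutes, AlgHom.commutes, sub_self]
    · show PowerSeries.coeff n (A (a * b)) - PowerSeries.coeff n (B (a * b)) = φ a * (_ - _) + φ b * (_ - _)
      rw [map_mul A, map_mul B, PowerSeries.coeff_mul, PowerSeries.coeff_mul, ← Finset.sum_sub_distrib]
      have hne : ((0, n) : ℕ × ℕ) ≠ (n, 0) := fun h => by simp only [Prod.mk.injEq] at h; omega
      rw [Finset.sum_eq_add_of_mem ((0, n) : ℕ × ℕ) (n, 0) (by simp) (by simp) hne]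
      · simp only [PowerSeries.coeff_zero_eq_constantCoeff_apply, hA, hB]
        ring
      · rintro ⟨i, j⟩ hij ⟨h1, h2⟩
        rw [Finset.HasAntidiagonal.mem_antidiagonal] at hij
        simp only at hij ⊢
        have hi : i < n := lt_of_le_of_ne (by omega) fun h => h2 (by simp only [Prod.mk.injEq]; omega)
        have hj : j < n := lt_of_le_of_ne (by omega) fun h => h1 (by simp only [Prod.mk.injEq]; omega)
        rw [ih i hi, ih j hj, sub_self]

end Groth.Agent.FunFldLib
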