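import Groth.Prelude.Def_W4bk4goldsch45p2
import Groth.Agent.FunFldLib.Torsion

/-! Hasse derivatives of a function field at a place. -/

set_option autoImplicit false

open WithZero Polynomial
open LocRes (hasseD IsHasseFamily)

namespace Groth.Agent.FunFldLib

open FunFld

variable {k K : Type*} [Field k] [Field K] [Algebra k K]

namespace Hasse

variable {s : K} {H : K →ₐ[k] PowerSeries K}

theorem hD_zero (hH : IsHasseFamily s H) (y : K) : hasseD H 0 y = y := by
  rw [LocRes.hasseD_apply, PowerSeries.coeff_zero_eq_constantCoeff_apply, hH.2]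

variable (H) in
theorem hD_add (j : ℕ) (x y : K) : hasseD H j (x + y) = hasseD H j x + hasseD H j y := by
  simp only [LocRes.hasseD_apply, map_add]

variable (H) in
theorem hD_sub (j : ℕ) (x y : K) : hasseD H j (x - y) = hasseD H j x - hasseD H j y := by
  simp only [LocRes.hasseD_apply, map_sub]

variable (H) in
theorem hD_map_zero (j : ℕ) : hasseD H j (0 : K) = 0 := by
  simp only [LocRes.hasseD_apply, map_zero]

variable (H) in
theorem hD_sum {ι : Type*} (S : Finset ι) (j : ℕ) (x : ι → K) :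
    hasseD H j (∑ i ∈ S, x i) = ∑ i ∈ S, hasseD H j (x i) := by
  simp only [LocRes.hasseD_apply, map_sum]

variable (H) in
theorem hD_mul (j : ℕ) (x y : K) :
    hasseD H j (x * y) = ∑ p ∈ Finset.HasAntidiagonal.antidiagonal j, hasseD H p.1 x * hasseD H p.2 y := by
  simp only [LocRes.hasseD_apply, map_mul, PowerSeries.coeff_mul]

variable (H) in
theorem hD_algebraMap (j : ℕ) (c : k) :
    hasseD H j (algebraMap k K c) = if j = 0 then algebraMap k K c else 0 := by
  rw [LocRes.hasseD_apply, H.commutes, PowerSeries.algebraMap_apply, PowerSeries.coeff_C]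

variable (H) in
theorem hD_one (j : ℕ) : hasseD H j (1 : K) = if j = 0 then 1 else 0 := by
  simpa using hD_algebraMap H j (1 : k)

variable (H) in
theorem hD_smul (j : ℕ) (c : k) (x : K) : hasseD H j (c • x) = c • hasseD H j x := by
  simp only [LocRes.hasseD_apply, map_smul, PowerSeries.coeff_smul]

theorem hD_pow (hH : IsHasseFamily s H) (j m : ℕ) :
    hasseD H j (s ^ m) = (m.choose j : K) * s ^ (m - j) := by
  rw [LocRes.hasseD_apply, map_pow, hH.1, show (PowerSeries.C s + PowerSeries.X : PowerSeries K) ^ m =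
    (((Polynomial.X + Polynomial.C s) ^ m : K[X]) : PowerSeries K) by
      rw [Polynomial.coe_pow, Polynomial.coe_add, Polynomial.coe_X, Polynomial.coe_C, add_comm],
    Polynomial.coeff_coe, Polynomial.coeff_X_add_C_pow, mul_comm]

/-- the first Hasse derivative as a derivation -/
noncomputable def deriv (hH : IsHasseFamily s H) : Derivation k K K :=
  Derivation.mk'
    { toFun := hasseD H 1
      map_add' := hD_add H 1
      map_smul' := hD_smul H 1 }
    fun a b => by
      show hasseD H 1 (a * b) = a • hasseD H 1 b + b • hasseD H 1 a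
      rw [hD_mul, Finset.Nat.sum_antidiagonal_eq_sum_range_succ_mk, Finset.sum_range_succ,
        Finset.sum_range_one, smul_eq_mul, smul_eq_mul]
      simp only [Nat.sub_zero, Nat.sub_self, hD_zero hH]
      ring

theorem deriv_apply (hH : IsHasseFamily s H) (y : K) : deriv hH y = hasseD H 1 y := rfl

theorem shift (hH : IsHasseFamily s H) (c : k) : IsHasseFamily (s - algebraMap k K c) H := by
  refine ⟨?_, hH.2⟩
  rw [map_sub, hH.1, H.commutes, map_sub, PowerSeries.algebraMap_apply]
  ring

end Hasse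

/-! ## values at a place -/

section Value

variable [IsAlgClosed k] (hK : IsFunctionField k K) (P : Place k K)

include hK

theorem residue_bij : Function.Bijective (algebraMap k (IsLocalRing.ResidueField P.O)) := by
  refine ⟨(algebraMap k (IsLocalRing.ResidueField P.O)).injective, fun y => ?_⟩
  have := finite_residue hK.1 P
  have hd : Module.finrank k (IsLocalRing.ResidueField P.O) = 1 := deg_eq_one hK P
  obtain ⟨a, ha⟩ := ((finrank_eq_one_iff_of_nonzero' (1 : IsLocalRing.ResidueField P.O) one_ne_zero).1 hd) y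
  exact ⟨a, ((Algebra.smul_def a (1 : IsLocalRing.ResidueField P.O)).trans (mul_one _)).symm.trans ha⟩

omit hK [IsAlgClosed k] in
theorem residue_algebraMap (a : k) :
    IsLocalRing.residue P.O (algebraMap k P.O a) = algebraMap k (IsLocalRing.ResidueField P.O) a := rfl

omit hK [IsAlgClosed k] in
theorem evalP_def {z : K} (hz : P.1 z ≤ 1) :
    evalP P z = IsLocalRing.residue P.O ⟨z, hz⟩ := dif_pos hz

omit hK [IsAlgClosed k] in
theorem residue_eq_zero_iff (x : P.O) : IsLocalRing.residue P.O x = 0 ↔ P.1 (x : K) < 1 := residue_eq_zero x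

omit hK [IsAlgClosed k] in
theorem evalP_eq_iff {z : K} (hz : P.1 z ≤ 1) (a : k) :
    evalP P z = algebraMap k _ a ↔ P.1 (z - algebraMap k K a) < 1 := by
  rw [evalP_def P hz, ← residue_algebraMap, ← sub_eq_zero, ← map_sub, residue_eq_zero_iff]
  rfl

omit hK [IsAlgClosed k] in
theorem evalP_ne_zero_iff {z : K} (hz : P.1 z ≤ 1) : evalP P z ≠ 0 ↔ P.1 z = 1 := by
  rw [evalP_def P hz, ne_eq, residue_eq_zero_iff, not_lt]
  exact ⟨fun h => le_antisymm hz h, fun h => h.ge⟩

theorem exists_res {z : K} (hz : P.1 z ≤ 1) : ∃ a : k, P.1 (z - algebraMap k K a) < 1 := by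
  obtain ⟨a, ha⟩ := (residue_bij hK P).2 (evalP P z)
  exact ⟨a, (evalP_eq_iff P hz a).1 ha.symm⟩

omit hK [IsAlgClosed k] in
theorem lt_one_iff_exp (z : K) : P.1 z < 1 ↔ P.1 z ≤ exp (-1) := lt_one_iff_le _

variable {t : K} (ht : P.1 t = exp (-1))
include ht

omit hK [IsAlgClosed k] in
theorem t_ne_zero : t ≠ 0 := fun h => by rw [h, map_zero] at ht; exact exp_ne_zero ht.symm

omit hK [IsAlgClosed k] in
theorem v_pow (m : ℕ) : P.1 (t ^ m) = exp (-(m : ℤ)) := by
  rw [map_pow, ht, ← exp_nsmul]; simp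

omit hK [IsAlgClosed k] in
theorem exists_unit_part {z : K} {m : ℕ} (hz : P.1 z ≤ exp (-(m : ℤ))) :
    ∃ u, P.1 u ≤ 1 ∧ z = t ^ m * u := by
  refine ⟨z / t ^ m, ?_, (mul_div_cancel₀ _ (pow_ne_zero m (t_ne_zero P ht))).symm⟩
  rw [map_div₀, v_pow P ht]
  exact (div_le_one₀ (zero_lt_iff.2 exp_ne_zero)).2 hz

/-- the leading coefficient -/
theorem exists_lead {z : K} {m : ℕ} (hz : P.1 z ≤ exp (-(m : ℤ))) :
    ∃ c : k, P.1 (z - algebraMap k K c * t ^ m) ≤ exp (-((m : ℤ) + 1)) := by
  obtain ⟨u, hu, rfl⟩ := exists_unit_part P ht hz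
  obtain ⟨c, hc⟩ := exists_res hK P hu
  refine ⟨c, ?_⟩
  rw [show t ^ m * u - algebraMap k K c * t ^ m = t ^ m * (u - algebraMap k K c) by ring, map_mul,
    v_pow P ht, show (-((m : ℤ) + 1)) = -(m : ℤ) + (-1) by ring, exp_add]
  exact mul_le_mul' le_rfl ((lt_one_iff_exp P _).1 hc)

theorem exists_taylor {z : K} (hz : P.1 z ≤ 1) (n : ℕ) :
    ∃ p : k[X], P.1 (z - aeval t p) ≤ exp (-(n : ℤ)) := by
  induction n with
  | zero => exact ⟨0, by simpa using hz⟩
  | succ n ih =>
    obtain ⟨p, hp⟩ := ih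
    obtain ⟨c, hc⟩ := exists_lead hK P ht hp
    refine ⟨p + C c * X ^ n, ?_⟩
    rw [map_add, map_mul, aeval_C, map_pow, aeval_X, ← sub_sub]
    exact hc.trans_eq (by push_cast; ring_nf)

end Value

/-! ## integrality of Hasse derivatives -/

section Integral

variable [IsAlgClosed k] (hK : IsFunctionField k K) (P : Place k K)

include hK

theorem exists_separates : ∃ E : Divisor k K, 0 ≤ E ∧ 0 < E.deg ∧ E P = 0 ∧ Separates E := by
  classical
  obtain ⟨x, hx0, hx⟩ := exists_exp P (-1)
  have hxk : x ∉ Set.range (algebraMap k K) := by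
    rintro ⟨c, rfl⟩
    rw [v_algebraMap P (fun h => hx0 (by rw [h, map_zero])), ← exp_zero] at hx
    have := exp_injective hx
    omega
  obtain ⟨Q, hQ⟩ := exists_pole hK hxk
  have hne : Q ≠ P := by
    rintro rfl
    rw [Place.ord, hx, log_exp] at hQ
    omega
  refine ⟨Finsupp.single Q (2 * (genus k K : ℤ) + 1), Finsupp.single_nonneg.2 (by omega),
    by rw [deg_single, deg_eq_one hK Q]; omega, Finsupp.single_eq_of_ne hne.symm, fun R S => ?_⟩
  have h1 := ell_eq_of_large hK (D := Finsupp.single Q (2 * (genus k K : ℤ) + 1))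
    (by rw [deg_single, deg_eq_one hK Q]; omega)
  have h2 := ell_eq_of_large hK
    (D := Finsupp.single Q (2 * (genus k K : ℤ) + 1) - Finsupp.single R 1 - Finsupp.single S 1)
    (by simp only [deg_sub, deg_single, deg_eq_one hK Q, deg_eq_one hK R, deg_eq_one hK S]; omega)
  simp only [deg_sub, deg_single, deg_eq_one hK Q, deg_eq_one hK R, deg_eq_one hK S] at h1 h2
  push_cast at h1 h2
  omega

omit hK [IsAlgClosed k] in
theorem exists_le_exp_nat (a : WithZero (Multiplicative ℤ)) : ∃ c : ℕ, a ≤ exp (c : ℤ) := by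
  rcases eq_or_ne a 0 with rfl | ha
  · exact ⟨0, zero_le⟩
  · refine ⟨(log a).toNat, ?_⟩
    nth_rw 1 [← exp_log ha]
    exact exp_le_exp.2 (Int.self_le_toNat _)

variable {s : K} {H : K →ₐ[k] PowerSeries K} (hH : IsHasseFamily s H)
include hH

/-- poles of Hasse derivatives are bounded -/
theorem hD_bound (N : ℕ) :
    ∃ c : ℕ, ∀ z : K, P.1 z ≤ 1 → ∀ j ≤ N, P.1 (hasseD H j z) ≤ exp ((c * j : ℕ) : ℤ) := by
  classical
  obtain ⟨E, hE0, hEd, hEP, hsep⟩ := exists_separates hK P
  have := finite_L hK.1 E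
  let b := Module.finBasis k (FunFld.L E)
  choose g hg using fun p : Fin (Module.finrank k (FunFld.L E)) × Fin (N + 1) =>
    exists_le_exp_nat (P.1 (hasseD H (p.2 : ℕ) (b p.1 : K)))
  set c := Finset.univ.sup g with hc
  refine ⟨c, ?_⟩
  have hA : ∀ a ∈ Algebra.adjoin k ((FunFld.L E : Submodule k K) : Set K),
      ∀ j ≤ N, P.1 (hasseD H j a) ≤ exp ((c * j : ℕ) : ℤ) := by
    intro a ha
    induction ha using Algebra.adjoin_induction with
    | mem x hx =>
      intro j hj
      rcases Nat.eq_zero_or_pos j with rfl | hj0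
      · rw [Hasse.hD_zero hH]; simpa [hEP] using hx P
      · have hxe : x = ∑ i, b.repr ⟨x, hx⟩ i • (b i : K) := by
          have := congrArg (FunFld.L E).subtype (b.sum_repr ⟨x, hx⟩)
          rw [map_sum] at this
          simpa only [map_smul, Submodule.subtype_apply] using this.symm
        rw [hxe, Hasse.hD_sum]
        refine Valuation.map_sum_le _ fun i _ => ?_
        rw [Hasse.hD_smul]
        refine (smul_le P _ _).trans ((hg (i, ⟨j, by omega⟩)).trans (exp_le_exp.2 ?_))
        exact_mod_cast (Finset.le_sup (f := g) (Finset.mem_univ _)).trans (Nat.le_mul_of_pos_right c hj0)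
    | algebraMap a =>
      intro j _
      rw [Hasse.hD_algebraMap]
      split_ifs
      · exact (P.2.1 a).trans (by rw [← exp_zero]; exact exp_le_exp.2 (Int.natCast_nonneg _))
      · rw [map_zero]; exact zero_le
    | add x y _ _ hx hy =>
      intro j hj
      rw [Hasse.hD_add]
      exact (P.1.map_add _ _).trans (max_le (hx j hj) (hy j hj))
    | mul x y _ _ hx hy =>
      intro j hj
      rw [Hasse.hD_mul]
      refine Valuation.map_sum_le _ fun p hp => ?_
      rw [Finset.HasAntidiagonal.mem_antidiagonal] at hp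
      rw [map_mul]
      refine (mul_le_mul' (hx p.1 (by omega)) (hy p.2 (by omega))).trans_eq ?_
      rw [← exp_add, ← hp, mul_add]
      push_cast
      rfl
  intro z hz j
  obtain ⟨u, hu, w, hw, hw1, he⟩ := exists_unit_multiple hK hsep hE0 hEd P hEP z hz
  induction j using Nat.strong_induction_on with
  | _ j ih =>
    intro hj
    have h1 := congrArg (hasseD H j) he
    rw [Hasse.hD_mul, ← Finset.add_sum_erase _ _
      (show (j, 0) ∈ Finset.HasAntidiagonal.antidiagonal j by simp), Hasse.hD_zero hH] at h1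
    have h2 : P.1 (hasseD H j z * w) ≤ exp ((c * j : ℕ) : ℤ) := by
      rw [eq_sub_of_add_eq h1]
      refine (P.1.map_sub _ _).trans (max_le (hA u hu j hj) (Valuation.map_sum_le _ fun p hp => ?_))
      rw [Finset.mem_erase, Finset.HasAntidiagonal.mem_antidiagonal] at hp
      obtain ⟨p1, p2⟩ := p
      have hlt : p1 < j := by
        rcases Nat.eq_zero_or_pos p2 with h | h
        · exact absurd (Prod.ext (by simp only; omega) h) hp.1
        · omega
      rw [map_mul]
      refine (mul_le_mul' (ih p1 hlt (by omega)) (hA w hw p2 (by omega))).trans_eq ?_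
      rw [← exp_add, ← hp.2, mul_add]
      push_cast
      rfl
    rwa [map_mul, hw1, mul_one] at h2

variable (hs : P.1 s = exp (-1))
include hs

/-- Hasse derivatives in a local parameter are integral -/
theorem hD_int {z : K} (hz : P.1 z ≤ 1) (j : ℕ) : P.1 (hasseD H j z) ≤ 1 := by
  obtain ⟨c, hc⟩ := hD_bound hK P hH j
  obtain ⟨p, hp⟩ := exists_taylor hK P hs hz (c * j + j)
  obtain ⟨u, hu, he⟩ := exists_unit_part P hs hp
  have hpol : ∀ q : k[X], P.1 (hasseD H j (aeval s q)) ≤ 1 := by
    intro q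
    induction q using Polynomial.induction_on' with
    | add a b ha hb =>
      rw [map_add, Hasse.hD_add]
      exact (P.1.map_add _ _).trans (max_le ha hb)
    | monomial n a =>
      rw [aeval_monomial, ← Algebra.smul_def, Hasse.hD_smul, Hasse.hD_pow hH]
      refine (smul_le P _ _).trans ?_
      rw [map_mul]
      refine mul_le_one' ((map_natCast (algebraMap k K) _) ▸ P.2.1 _) ?_
      rw [v_pow P hs, ← exp_zero]
      exact exp_le_exp.2 (by omega)
  rw [eq_add_of_sub_eq he, Hasse.hD_add]
  refine (P.1.map_add _ _).trans (max_le ?_ (hpol p))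
  rw [Hasse.hD_mul]
  refine Valuation.map_sum_le _ fun x hx => ?_
  rw [Finset.HasAntidiagonal.mem_antidiagonal] at hx
  rw [Hasse.hD_pow hH, map_mul, map_mul]
  refine (mul_le_mul' (mul_le_mul' ((map_natCast (algebraMap k K) _) ▸ P.2.1 _) le_rfl)
    (hc u hu x.2 (by omega))).trans ?_
  rw [one_mul, v_pow P hs, ← exp_add, ← exp_zero, exp_le_exp]
  have h3 : c * x.2 ≤ c * j := Nat.mul_le_mul_left c (by omega)
  omega

theorem hD_order {z : K} {m : ℕ} (hz : P.1 z ≤ exp (-(m : ℤ))) (j : ℕ) :
    P.1 (hasseD H j z) ≤ exp (-((m : ℤ) - j)) := by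
  obtain ⟨u, hu, rfl⟩ := exists_unit_part P hs hz
  rw [Hasse.hD_mul]
  refine Valuation.map_sum_le _ fun x hx => ?_
  rw [Finset.HasAntidiagonal.mem_antidiagonal] at hx
  rw [Hasse.hD_pow hH, map_mul, map_mul]
  refine (mul_le_mul' (mul_le_mul' ((map_natCast (algebraMap k K) _) ▸ P.2.1 _) le_rfl)
    (hD_int hK P hH hs hu x.2)).trans ?_
  rw [one_mul, mul_one, v_pow P hs, exp_le_exp]
  omega

theorem hD_lead {z : K} {m : ℕ} {c : k}
    (hz : P.1 (z - algebraMap k K c * s ^ m) ≤ exp (-((m : ℤ) + 1))) (j : ℕ) :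
    P.1 (hasseD H j z - algebraMap k K c * ((m.choose j : K) * s ^ (m - j))) ≤
      exp (-((m : ℤ) + 1 - j)) := by
  have h := hD_order hK P hH hs (z := z - algebraMap k K c * s ^ m) (m := m + 1)
    (by exact_mod_cast hz) j
  rw [Hasse.hD_sub, ← Algebra.smul_def, Hasse.hD_smul, Hasse.hD_pow hH, Algebra.smul_def] at h
  exact_mod_cast h

end Integral

end Groth.Agent.FunFldLib
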