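import Groth.Agent.FunFldLib.Hasse.Div
import Mathlib.RingTheory.PowerSeries.Substitution

/-! Change of the variable of a Hasse family. -/

set_option autoImplicit false

open WithZero Submodule
open LocRes (hasseD IsHasseFamily)

namespace Groth.Agent.FunFldLib

open FunFld

variable {k K : Type*} [Field k] [Field K] [Algebra k K]
variable [IsAlgClosed k] (hK : IsFunctionField k K) (P : Place k K)
variable {t : K} (ht : P.1 t = exp (-1))
variable {V : Type*} [Field V]

omit [IsAlgClosed k] in
theorem exists_frac (z : K) (ht : P.1 t = exp (-1)) :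
    ∃ (m : ℕ) (a : K), P.1 a ≤ 1 ∧ z * t ^ m = a := by
  obtain ⟨m, hm⟩ := exists_le_exp_nat (P.1 z)
  refine ⟨m, z * t ^ m, ?_, rfl⟩
  rw [map_mul, v_pow P ht]
  exact (mul_le_mul' hm le_rfl).trans_eq (by rw [← exp_add]; simp)

include hK ht

/-- a functional continuous at `P` and zero on polynomials in `t` is zero on the valuation ring -/
theorem eq_zero_of_small (w : V → WithZero (Multiplicative ℤ)) (hw : ∀ x, w x = 0 → x = 0)
    (e : K → V) (he : ∀ a b, e (a + b) = e a + e b) (hpol : ∀ q : Polynomial k, e (Polynomial.aeval t q) = 0)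
    (c : ℤ) (hc : ∀ (M : ℕ) (u : K), P.1 u ≤ 1 → w (e (t ^ M * u)) ≤ exp (c - M))
    {z : K} (hz : P.1 z ≤ 1) : e z = 0 := by
  apply hw
  by_contra h0
  obtain ⟨M, hM⟩ : ∃ M : ℕ, c - M < log (w (e z)) := ⟨(c - log (w (e z))).toNat + 1, by omega⟩
  obtain ⟨p, hp⟩ := exists_taylor hK P ht hz M
  obtain ⟨u, hu, hu'⟩ := exists_unit_part P ht hp
  have h1 := hc M u hu
  rw [eq_add_of_sub_eq hu', he, hpol, add_zero] at h0 hM
  rw [← exp_log h0, exp_le_exp] at h1
  omega

/-- two Hasse families in the same local parameter agree -/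
theorem family_unique {H H' : K →ₐ[k] PowerSeries K} (hH : IsHasseFamily t H) (hH' : IsHasseFamily t H') :
    H = H' := by
  have key : ∀ j (z : K), P.1 z ≤ 1 → hasseD H j z - hasseD H' j z = 0 := fun j z hz =>
    eq_zero_of_small hK P ht P.1 (fun x => (map_eq_zero P.1).1) (fun z => hasseD H j z - hasseD H' j z)
      (fun a b => by rw [Hasse.hD_add, Hasse.hD_add]; ring)
      (fun q => by
        induction q using Polynomial.induction_on' with
        | add a b ha hb =>
          rw [map_add, Hasse.hD_add, Hasse.hD_add, add_sub_add_comm, ha, hb, add_zero]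
        | monomial m a =>
          rw [Polynomial.aeval_monomial, ← Algebra.smul_def, Hasse.hD_smul, Hasse.hD_smul,
            Hasse.hD_pow hH, Hasse.hD_pow hH', sub_self])
      j (fun M u hu => by
        have hz : P.1 (t ^ M * u) ≤ exp (-(M : ℤ)) := by
          rw [map_mul, v_pow P ht]
          exact (mul_le_mul' le_rfl hu).trans_eq (mul_one _)
        refine (P.1.map_sub _ _).trans (max_le ?_ ?_)
        · exact (hD_order hK P hH ht hz j).trans (exp_le_exp.2 (by omega))
        · exact (hD_order hK P hH' ht hz j).trans (exp_le_exp.2 (by omega))) hz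
  have hO : ∀ z, P.1 z ≤ 1 → H z = H' z := fun z hz => PowerSeries.ext fun j => sub_eq_zero.1 (key j z hz)
  refine AlgHom.ext fun z => ?_
  obtain ⟨m, a, ha, he⟩ := exists_frac P z ht
  have h1 := hO a ha
  rw [← he, map_mul, map_mul, map_pow, map_pow, hH.1, hH'.1] at h1
  refine mul_right_cancel₀ (pow_ne_zero m fun h => ?_) h1
  have := congrArg (PowerSeries.coeff 1) h
  simp at this

/-- a derivation of bounded pole killing a local parameter is zero -/
theorem derivation_eq_zero (δ : Derivation k K K) (h0 : δ t = 0) (c : ℤ)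
    (hc : ∀ z, P.1 z ≤ 1 → P.1 (δ z) ≤ exp c) : δ = 0 := by
  have hp : ∀ m : ℕ, δ (t ^ m) = 0 := fun m => by rw [δ.leibniz_pow, h0, smul_zero, smul_zero]
  have hO : ∀ z, P.1 z ≤ 1 → δ z = 0 := fun z hz =>
    eq_zero_of_small hK P ht P.1 (fun x => (map_eq_zero P.1).1) δ (fun a b => map_add δ a b)
      (fun q => by
        induction q using Polynomial.induction_on' with
        | add a b ha hb => rw [map_add, map_add, ha, hb, add_zero]
        | monomial m a => rw [Polynomial.aeval_monomial, ← Algebra.smul_def, δ.map_smul, hp, smul_zero])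
      c (fun M u hu => by
        rw [δ.leibniz, hp, smul_zero, add_zero, smul_eq_mul, map_mul, v_pow P ht]
        exact (mul_le_mul' le_rfl (hc u hu)).trans_eq (by rw [← exp_add]; ring_nf)) hz
  ext z
  obtain ⟨m, a, ha, he⟩ := exists_frac P z ht
  have h1 := hO a ha
  rw [← he, δ.leibniz, hp, smul_zero, zero_add, smul_eq_mul] at h1
  exact (mul_eq_zero.1 h1).resolve_left (pow_ne_zero m (t_ne_zero P ht))

variable {s : K} {H : K →ₐ[k] PowerSeries K} (hH : IsHasseFamily s H)
include hH

/-- a local parameter has nonzero first Hasse derivative -/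
theorem deriv_param_ne_zero : hasseD H 1 t ≠ 0 := by
  intro h0
  obtain ⟨c, hc⟩ := hD_bound hK P hH 1
  have h := derivation_eq_zero hK P ht (Hasse.deriv hH) h0 ((c * 1 : ℕ) : ℤ) fun z hz => hc z hz 1 le_rfl
  have h1 := congrArg (fun δ : Derivation k K K => δ s) h
  rw [Hasse.deriv_apply, LocRes.hasseD_apply, hH.1, map_add, PowerSeries.coeff_C,
    PowerSeries.coeff_one_X] at h1
  simp at h1

/-- change of variable -/
theorem exists_family : ∃ ρ : PowerSeries K, PowerSeries.constantCoeff ρ = 0 ∧
    PowerSeries.coeff 1 ρ * hasseD H 1 t = 1 ∧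
    ∃ Ht : K →ₐ[k] PowerSeries K, IsHasseFamily t Ht ∧ ∀ z i, hasseD Ht i z =
      ∑ j ∈ Finset.range (i + 1), hasseD H j z * PowerSeries.coeff i (ρ ^ j) := by
  set σ : PowerSeries K := H t - PowerSeries.C t with hσ
  have h0 : PowerSeries.constantCoeff σ = 0 := by rw [hσ, map_sub, hH.2, PowerSeries.constantCoeff_C, sub_self]
  have h1 : PowerSeries.coeff 1 σ = hasseD H 1 t := by
    rw [hσ, map_sub, PowerSeries.coeff_C, if_neg one_ne_zero, sub_zero]; rfl
  let _ : Invertible (PowerSeries.coeff 1 σ) :=
    invertibleOfNonzero (h1 ▸ deriv_param_ne_zero hK P ht hH)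
  set ρ := PowerSeries.substInv σ with hρ
  have hr0 : PowerSeries.constantCoeff ρ = 0 := PowerSeries.constantCoeff_substInv σ
  have hs : PowerSeries.HasSubst ρ := PowerSeries.HasSubst.of_constantCoeff_zero' hr0
  have hinv : σ.subst ρ = PowerSeries.X := PowerSeries.subst_substInv_right σ h0
  have hco : ∀ (f : PowerSeries K) i, PowerSeries.coeff i (f.subst ρ) =
      ∑ j ∈ Finset.range (i + 1), PowerSeries.coeff j f * PowerSeries.coeff i (ρ ^ j) := by
    intro f i
    rw [PowerSeries.coeff_subst' hs, finsum_eq_sum_of_support_subset (s := Finset.range (i + 1))]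
    · rfl
    · intro j hj
      rw [Finset.coe_range, Set.mem_Iio]
      by_contra hlt
      apply hj
      simp only [smul_eq_mul]
      rw [show PowerSeries.coeff i (ρ ^ j) = 0 from PowerSeries.X_pow_dvd_iff.1
        (pow_dvd_pow_of_dvd (PowerSeries.X_dvd_iff.2 hr0) j) i (by omega), mul_zero]
  have hlin : PowerSeries.coeff 1 ρ * hasseD H 1 t = 1 := by
    have := congrArg (PowerSeries.coeff 1) hinv
    rw [hco, Finset.sum_range_succ, Finset.sum_range_one, PowerSeries.coeff_one_X, pow_one, pow_zero,
      PowerSeries.coeff_one, if_neg one_ne_zero, mul_zero, zero_add, h1] at this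
    rw [mul_comm]; exact this
  refine ⟨ρ, hr0, hlin, ((PowerSeries.substAlgHom hs : PowerSeries K →ₐ[K] PowerSeries K).restrictScalars k).comp H,
    ⟨?_, fun y => ?_⟩, fun z i => ?_⟩
  · show PowerSeries.substAlgHom hs (H t) = _
    rw [show H t = PowerSeries.C t + σ by rw [hσ]; ring, map_add, PowerSeries.coe_substAlgHom, hinv,
      PowerSeries.subst_C]
    rfl
  · show PowerSeries.constantCoeff (PowerSeries.substAlgHom hs (H y)) = y
    rw [PowerSeries.coe_substAlgHom, ← PowerSeries.coeff_zero_eq_constantCoeff_apply, hco]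
    simp [hH.2]
  · show PowerSeries.coeff i (PowerSeries.substAlgHom hs (H z)) = _
    rw [PowerSeries.coe_substAlgHom, hco]
    rfl

end Groth.Agent.FunFldLib
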