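import Groth.Agent.FunFldLib.Hasse.Orders
import Mathlib.LinearAlgebra.Matrix.NonsingularInverse
import Mathlib.LinearAlgebra.Matrix.Block

/-! Determinants of Hasse derivatives at a place. -/

set_option autoImplicit false

open WithZero Submodule Matrix
open LocRes (hasseD IsHasseFamily)

namespace Groth.Agent.FunFldLib

open FunFld

variable {k K : Type*} [Field k] [Field K] [Algebra k K]

section Algebraic

variable (τ : K →ₐ[k] K) (H : K →ₐ[k] PowerSeries K)

theorem hcol_map {m n : ℕ} (φ : Fin n → K) (M : Matrix (Fin m) (Fin n) k) (j : ℕ) :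
    hcol τ H (fun i => ∑ l, M i l • φ l) j = (M.map (algebraMap k K)).mulVecLin (hcol τ H φ j) := by
  funext i
  rcases j with - | j
  · simp [hcol, mulVec, dotProduct, Algebra.smul_def]
  · show hasseD H j (∑ l, M i l • φ l) = _
    rw [Hasse.hD_sum]
    simp only [Hasse.hD_smul]
    simp [hcol, mulVec, dotProduct, Algebra.smul_def]

theorem wrMat_eq {n : ℕ} (φ : Fin (n + 1) → K) (I : Fin n → ℕ) :
    wrMat τ H φ I = of fun i x => hcol τ H φ (Fin.cases 0 (fun l => I l + 1) x) i := by
  ext i x
  cases x using Fin.cases <;> simp [wrMat, hcol]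

theorem wrMat_change {n : ℕ} (φ : Fin (n + 1) → K) (M : Matrix (Fin (n + 1)) (Fin (n + 1)) k)
    (I : Fin n → ℕ) :
    (wrMat τ H (fun i => ∑ l, M i l • φ l) I).det =
      algebraMap k K M.det * (wrMat τ H φ I).det := by
  rw [RingHom.map_det, ← Matrix.det_mul]
  congr 1
  rw [wrMat_eq, wrMat_eq]
  ext i x
  simp only [of_apply, hcol_map, mulVecLin_apply, mul_apply, mulVec, dotProduct, RingHom.mapMatrix_apply]

theorem exists_change {n : ℕ} {φ φ' : Fin n → K} (h : LinearIndependent k φ')
    (hs : span k (Set.range φ') ≤ span k (Set.range φ)) :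
    ∃ M : Matrix (Fin n) (Fin n) k, M.det ≠ 0 ∧ φ' = fun i => ∑ l, M i l • φ l := by
  choose M hM using fun i => (mem_span_range_iff_exists_fun k).1 (hs (subset_span ⟨i, rfl⟩))
  refine ⟨M, fun h0 => ?_, funext fun i => (hM i).symm⟩
  obtain ⟨v, hv, hvM⟩ := exists_vecMul_eq_zero_iff.2 (show (Matrix.of M).det = 0 from h0)
  have : ∑ i, v i • φ' i = 0 := by
    simp only [← hM, Finset.smul_sum, smul_smul]
    rw [Finset.sum_comm]
    refine Finset.sum_eq_zero fun l _ => ?_
    rw [← Finset.sum_smul]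
    have h1 := congrFun hvM l
    simp only [vecMul, dotProduct, of_apply, Pi.zero_apply] at h1
    rw [h1, zero_smul]
  exact hv (funext fun i => Fintype.linearIndependent_iff.1 h v this i)

theorem det_reduce {n : ℕ} (φ : Fin (n + 1) → K) (h : φ 0 = 1) (I : Fin n → ℕ) :
    (wrMat τ H φ I).det = (of fun (l : Fin n) (x : Fin n) =>
      hasseD H (I x) (φ l.succ) - (if I x = 0 then τ (φ l.succ) else 0)).det := by
  set A := wrMat τ H φ I with hA
  let c : Fin (n + 1) → K := Fin.cases 0 fun x => if I x = 0 then 1 else 0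
  let B : Matrix (Fin (n + 1)) (Fin (n + 1)) K := of fun i j => A i j - c j * A i 0
  have hc0 : c 0 = 0 := rfl
  have h1 : A.det = B.det := by
    rw [← det_transpose A, ← det_transpose B]
    refine det_eq_of_forall_row_eq_smul_add_const c 0 hc0 fun i j => ?_
    simp only [B, transpose_apply, of_apply, hc0]
    ring
  have hB0 : ∀ j, B 0 j = if j = 0 then 1 else 0 := by
    intro j
    cases j using Fin.cases with
    | zero => simp [B, hA, wrMat, h, hc0]
    | succ x =>
      have : B 0 x.succ = hasseD H (I x) (1 : K) - (if I x = 0 then 1 else 0) * τ (1 : K) := by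
        simp [B, hA, wrMat, h, c]
      rw [this, Hasse.hD_one, map_one, mul_one, sub_self, if_neg (Fin.succ_ne_zero x)]
  rw [h1, det_succ_row_zero, Finset.sum_eq_single (0 : Fin (n + 1))]
  · rw [hB0, if_pos rfl]
    simp only [Fin.val_zero, pow_zero, one_mul]
    congr 1
    ext l x
    simp [B, hA, wrMat, c]
  · intro j _ hj
    rw [hB0, if_neg hj, mul_zero, zero_mul]
  · simp

end Algebraic

section Est

variable [IsAlgClosed k] (hK : IsFunctionField k K) (P : Place k K) {τ : K →ₐ[k] K} (hP : IsFixedPt τ P)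
variable {t : K} (ht : P.1 t = exp (-1)) {Ht : K →ₐ[k] PowerSeries K} (hHt : IsHasseFamily t Ht)

include hK hP in
theorem tau_int {z : K} (hz : P.1 z ≤ 1) : P.1 (τ z) ≤ 1 := by
  obtain ⟨a, ha⟩ := exists_res hK P hz
  rw [show z = algebraMap k K a + (z - algebraMap k K a) by ring, map_add, τ.commutes]
  exact (P.1.map_add _ _).trans (max_le (P.2.1 a) (hP _ ha).le)

include hK hP ht in
theorem tau_order {z : K} {m : ℕ} (hz : P.1 z ≤ exp (-(m : ℤ))) :
    P.1 (τ z) ≤ exp (-(m : ℤ)) ∧ (IsStrongFixedPt τ P → P.1 (τ z) ≤ exp (-(2 * m : ℤ))) := by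
  obtain ⟨u, hu, rfl⟩ := exists_unit_part P ht hz
  have hu' := tau_int hK P hP hu
  have ht1 : P.1 t < 1 := by rw [ht, ← exp_zero]; exact exp_lt_exp.2 (by omega)
  rw [map_mul, map_pow, map_mul, map_pow]
  constructor
  · refine (mul_le_mul' (pow_le_pow_left' ((lt_one_iff_exp P _).1 (hP t ht1)) m) hu').trans_eq ?_
    rw [mul_one, ← exp_nsmul]
    simp
  · intro hS
    refine (mul_le_mul' (pow_le_pow_left' (hS t ht1) m) hu').trans_eq ?_
    rw [mul_one, ← exp_nsmul]
    congr 1
    simp
    ring

omit [IsAlgClosed k] in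
theorem det_unit {n : ℕ} (M : Matrix (Fin n) (Fin n) K) (hM : ∀ i j, P.1 (M i j) ≤ 1) :
    P.1 M.det ≤ 1 ∧ ∀ C : Matrix (Fin n) (Fin n) k,
      (∀ i j, P.1 (M i j - algebraMap k K (C i j)) < 1) → (P.1 M.det = 1 ↔ C.det ≠ 0) := by
  let M0 : Matrix (Fin n) (Fin n) P.O := of fun i j => ⟨M i j, hM i j⟩
  have hd : (M0.det : K) = M.det := by
    show P.O.subtype M0.det = M.det
    rw [RingHom.map_det]
    rfl
  refine ⟨hd ▸ M0.det.2, fun C hC => ?_⟩
  have h1 : IsLocalRing.residue P.O M0.det = algebraMap k (IsLocalRing.ResidueField P.O) C.det := by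
    rw [RingHom.map_det, RingHom.map_det]
    congr 1
    ext i j
    exact (evalP_def P (hM i j)).symm.trans ((evalP_eq_iff P (hM i j) _).2 (hC i j))
  rw [← hd, ← evalP_ne_zero_iff P M0.det.2, evalP_def P M0.det.2]
  show IsLocalRing.residue P.O M0.det ≠ 0 ↔ _
  rw [h1, map_ne_zero]

include hK hP ht hHt

theorem det_est {n : ℕ} (φ : Fin (n + 1) → K) (h0 : φ 0 = 1) (J : Fin n → ℕ) (hJ : ∀ l, 0 < J l)
    (hl : ∀ l : Fin n, P.1 (φ l.succ - t ^ J l) ≤ exp (-((J l : ℤ) + 1))) (I : Fin n → ℕ) :
    P.1 (wrMat τ Ht φ I).det ≤ exp (-(∑ l, ((J l : ℤ) - I l))) ∧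
    ((∀ l, 0 < I l) ∨ IsStrongFixedPt τ P →
      (P.1 (wrMat τ Ht φ I).det = exp (-(∑ l, ((J l : ℤ) - I l))) ↔ (binomMat k J I).det ≠ 0)) := by
  have ht0 : t ≠ 0 := t_ne_zero P ht
  rw [det_reduce τ Ht φ h0]
  set B : Matrix (Fin n) (Fin n) K := of fun (l : Fin n) (x : Fin n) =>
    hasseD Ht (I x) (φ l.succ) - (if I x = 0 then τ (φ l.succ) else 0) with hB
  set M : Matrix (Fin n) (Fin n) K := of fun l x => t ^ (I x) * (B l x / t ^ (J l)) with hM
  have hφ : ∀ l : Fin n, P.1 (φ l.succ) ≤ exp (-(J l : ℤ)) := fun l => by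
    rw [show φ l.succ = (φ l.succ - t ^ J l) + t ^ J l by ring]
    exact (P.1.map_add _ _).trans (max_le ((hl l).trans (exp_le_exp.2 (by omega))) (v_pow P ht _).le)
  have hl' : ∀ l : Fin n, P.1 (φ l.succ - algebraMap k K (1 : k) * t ^ J l) ≤ exp (-((J l : ℤ) + 1)) :=
    fun l => by rw [map_one, one_mul]; exact hl l
  have hBle : ∀ l x, P.1 (B l x) ≤ exp (-((J l : ℤ) - I x)) := by
    intro l x
    simp only [hB, of_apply]
    refine (P.1.map_sub _ _).trans (max_le (hD_order hK P hHt ht (hφ l) (I x)) ?_)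
    split_ifs with h
    · rw [h, Nat.cast_zero, sub_zero]
      exact (tau_order hK P hP ht (hφ l)).1
    · rw [map_zero]; exact zero_le
  have hsc : ∀ (a b : ℕ) (z : K), P.1 (t ^ b * (z / t ^ a)) = exp ((a : ℤ) - b) * P.1 z := by
    intro a b z
    rw [map_mul, map_div₀, v_pow P ht, v_pow P ht, div_eq_mul_inv, ← exp_neg, neg_neg,
      show exp ((a : ℤ) - b) = exp (-(b : ℤ)) * exp (a : ℤ) by rw [← exp_add]; ring_nf]
    exact (mul_assoc _ _ _).symm.trans ((mul_right_comm _ _ _).trans rfl)
  have hMint : ∀ l x, P.1 (M l x) ≤ 1 := by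
    intro l x
    rw [hM, of_apply, hsc]
    refine (mul_le_mul' le_rfl (hBle l x)).trans_eq ?_
    rw [← exp_add]; simp
  have hdet : B.det = (∏ l, t ^ J l) * (∏ x, (t ^ I x)⁻¹) * M.det := by
    have e : B = of fun l x => t ^ J l * ((of fun l x => (t ^ I x)⁻¹ * M l x) l x) := by
      ext l x
      simp only [hM, of_apply]
      field_simp
    rw [e, det_mul_column, det_mul_row, mul_assoc]
  have hv : P.1 B.det = exp (-(∑ l, ((J l : ℤ) - I l))) * P.1 M.det := by
    rw [hdet, map_mul, map_mul, map_prod, map_prod, ← Finset.prod_mul_distrib]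
    congr 1
    rw [← Finset.sum_neg_distrib]
    induction (Finset.univ : Finset (Fin n)) using Finset.induction_on with
    | empty => simp
    | insert a s ha ih =>
      rw [Finset.prod_insert ha, Finset.sum_insert ha, exp_add, ← ih, map_inv₀, v_pow P ht, v_pow P ht,
        ← exp_neg, ← exp_add]
      congr 2
      ring
  obtain ⟨hd1, hd2⟩ := det_unit P M hMint
  refine ⟨by rw [hv]; exact (mul_le_mul' le_rfl hd1).trans_eq (mul_one _), fun hcond => ?_⟩
  rw [hv, ← hd2 (binomMat k J I) fun l x => ?_]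
  · constructor
    · intro h
      exact mul_left_cancel₀ exp_ne_zero (h.trans (mul_one _).symm)
    · intro h; rw [h, mul_one]
  · simp only [binomMat, of_apply, hM, map_natCast]
    have hkey : P.1 (B l x - ((J l).choose (I x) : K) * t ^ (J l - I x)) ≤
        exp (-((J l : ℤ) + 1 - I x)) := by
      simp only [hB, of_apply]
      have h1 := hD_lead hK P hHt ht (hl' l) (I x)
      rw [map_one, one_mul] at h1
      rw [sub_right_comm]
      refine (P.1.map_sub _ _).trans (max_le h1 ?_)
      split_ifs with h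
      · have hS : IsStrongFixedPt τ P := hcond.resolve_left fun hp => (hp x).ne' h
        refine ((tau_order hK P hP ht (hφ l)).2 hS).trans (exp_le_exp.2 ?_)
        have := hJ l
        omega
      · rw [map_zero]; exact zero_le
    have hterm : ((J l).choose (I x) : K) =
        t ^ I x * (((J l).choose (I x) : K) * t ^ (J l - I x) / t ^ J l) := by
      rcases Nat.lt_or_ge (J l) (I x) with h | h
      · rw [Nat.choose_eq_zero_of_lt h, Nat.cast_zero, zero_mul, zero_div, mul_zero]
      · rw [← mul_div_assoc, mul_left_comm, ← pow_add, Nat.add_sub_cancel' h,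
          mul_div_assoc, div_self (pow_ne_zero _ ht0), mul_one]
    rw [hterm, ← mul_sub, ← sub_div, hsc]
    refine (mul_le_mul' le_rfl hkey).trans_lt ?_
    rw [← exp_add, ← exp_zero, exp_lt_exp]
    omega

end Est

section Rank

theorem exists_minor (R : Type*) [Field R] {q N : ℕ} (J : Fin q → ℕ) (hinj : Function.Injective J)
    (j0 : ℕ) (h0 : ∀ r, j0 ≤ J r) (hN : ∀ r, J r ≤ j0 + N) :
    ∃ I : Fin q → ℕ, (∀ x, I x ≤ N) ∧ (binomMat R J I).det ≠ 0 := by
  classical
  let w : Fin (N + 1) → Fin q → R := fun i r => ((J r).choose (i : ℕ) : R)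
  have hspan : span R (Set.range w) = ⊤ := by
    by_contra hne
    obtain ⟨F, hF, hF0⟩ := Submodule.exists_dual_map_eq_bot_of_lt_top (lt_top_iff_ne_top.2 hne) inferInstance
    apply hF
    let a : Fin q → R := fun r => F (Pi.single r 1)
    have hFx : ∀ x : Fin q → R, F x = ∑ r, a r * x r := fun x => by
      conv_lhs => rw [pi_eq_sum_univ' x]
      rw [map_sum]
      exact Finset.sum_congr rfl fun i _ => by rw [map_smul, smul_eq_mul, mul_comm]
    open Polynomial in
    have ha : ∀ r, a r = 0 := by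
      set p : R[X] := ∑ r, C (a r) * (X + 1) ^ (J r - j0) with hp
      have h1 : (X + 1 : R[X]) ^ j0 * p = ∑ r, C (a r) * (X + 1) ^ (J r) := by
        rw [hp, Finset.mul_sum]
        refine Finset.sum_congr rfl fun r _ => ?_
        rw [mul_left_comm, ← pow_add, Nat.add_sub_cancel' (h0 r)]
      have h2 : (X : R[X]) ^ (N + 1) ∣ (X + 1) ^ j0 * p := by
        rw [X_pow_dvd_iff, h1]
        intro d hd
        rw [finsetSum_coeff]
        simp only [coeff_C_mul, coeff_X_add_one_pow]
        have := (Submodule.eq_bot_iff _).1 hF0 _ ⟨w ⟨d, hd⟩, subset_span ⟨_, rfl⟩, rfl⟩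
        rw [hFx] at this
        exact this
      have hcop : IsCoprime ((X : R[X]) ^ (N + 1)) ((X + 1) ^ j0) :=
        IsCoprime.pow ⟨-1, 1, by ring⟩
      have h3 := hcop.dvd_of_dvd_mul_left h2
      have h4 : p = 0 := by
        by_contra hp0
        have hdeg := natDegree_le_of_dvd h3 hp0
        rw [natDegree_X_pow] at hdeg
        have : p.natDegree ≤ N := natDegree_sum_le_of_forall_le _ _ fun r _ => by
          refine (natDegree_C_mul_le _ _).trans ?_
          rw [show (X + 1 : R[X]) = X + C 1 by rw [C_1], natDegree_pow, natDegree_X_add_C]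
          have := hN r; have := h0 r
          omega
        omega
      intro r
      have h5 := congrArg (fun f => (f.comp (X - 1)).coeff (J r - j0)) h4
      simp only [hp, Polynomial.sum_comp, mul_comp, C_comp, pow_comp, add_comp, X_comp, one_comp,
        sub_add_cancel, finsetSum_coeff, coeff_C_mul_X_pow, zero_comp, coeff_zero] at h5
      rw [Finset.sum_eq_single r] at h5
      · simpa using h5
      · intro r' _ hr'
        rw [if_neg fun h => hr' (hinj (by have := h0 r; have := h0 r'; omega))]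
      · simp
    refine LinearMap.ext fun x => ?_
    simp [hFx, ha]
  obtain ⟨κ, e, -, hsp, hli⟩ := exists_linearIndependent' R w
  have hbij : Function.Injective e := fun a b h => hli.injective (by simp [h])
  have : Finite κ := Finite.of_injective e hbij
  have := Fintype.ofFinite κ
  have hcard : Fintype.card κ = q := by
    have h1 := finrank_span_eq_card hli
    rw [hsp, hspan, finrank_top] at h1
    simpa using h1.symm
  let f := (Fintype.equivFinOfCardEq hcard).symm
  refine ⟨fun x => (e (f x) : ℕ), fun x => Nat.lt_succ_iff.1 (e (f x)).2, ?_⟩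
  have h2 : LinearIndependent R (fun x => w (e (f x))) := hli.comp f f.injective
  have h3 : LinearIndependent R (binomMat R J (fun x => (e (f x) : ℕ))).col := h2
  exact ((isUnit_iff_isUnit_det _).1 (linearIndependent_cols_iff_isUnit.1 h3)).ne_zero

end Rank

end Groth.Agent.FunFldLib
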