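import Groth.Prelude.Def_W4bk4goldsch45p2
import Groth.Agent.FunFldLib.Field
import Mathlib.FieldTheory.SeparablyGenerated
import Mathlib.FieldTheory.IsAlgClosed.Basic
import Mathlib.FieldTheory.RatFunc.AsPolynomial
import Mathlib.RingTheory.AdicCompletion.Completeness
import Mathlib.RingTheory.Henselian
import Mathlib.FieldTheory.PrimitiveElement
import Mathlib.RingTheory.Derivation.Basic
import Mathlib.RingTheory.Kaehler.Basic
import Mathlib.RingTheory.AlgebraicIndependent.AlgebraicClosure

/-! Existence of a total Hasse derivative. -/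

set_option autoImplicit false

open Polynomial
open LocRes (IsHasseFamily)

namespace Groth.Agent.FunFldLib

open FunFld

variable {k K : Type*} [Field k] [Field K] [Algebra k K]

theorem essFiniteType (hK : IsFF0 k K) : Algebra.EssFiniteType k K := by
  obtain ⟨x, hx, hfin⟩ := hK
  let E := IntermediateField.adjoin k ({x} : Set K)
  have hE : Algebra.EssFiniteType k E :=
    IntermediateField.essFiniteType_iff.2 (IntermediateField.fg_adjoin_finset (F := k) ({x} : Finset K) |> fun h => by simpa using h)
  have : Algebra.EssFiniteType E K := inferInstance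
  exact Algebra.EssFiniteType.comp k E K

/-- a separating transcendence basis is a single separating element -/
theorem separating_of_basis (hK : IsFF0 k K)
    (h : ∃ S : Finset K, IsTranscendenceBasis k ((↑) : S → K) ∧
      Algebra.IsSeparable (IntermediateField.adjoin k (S : Set K)) K) :
    ∃ s : K, Transcendental k s ∧ FiniteDimensional (IntermediateField.adjoin k ({s} : Set K)) K ∧
      Algebra.IsSeparable (IntermediateField.adjoin k ({s} : Set K)) K := by
  obtain ⟨x, hx, hfin⟩ := hK
  let E := IntermediateField.adjoin k ({x} : Set K)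
  obtain ⟨S, hS, hsep⟩ := h
  have htr : IsTranscendenceBasis k (fun _ : Unit => x) := by
    have h1 : AlgebraicIndependent k (fun _ : Unit => x) := algebraicIndependent_unique_type_iff.2 hx
    refine (h1.isTranscendenceBasis_iff_isAlgebraic).2 ?_
    have : Algebra.IsAlgebraic E K := Algebra.IsAlgebraic.of_finite E K
    rw [Set.range_const]
    exact IntermediateField.isAlgebraic_adjoin_iff_top.1 this
  have hcard := hS.lift_cardinalMk_eq htr
  have hS1 : Fintype.card (S : Set K) = 1 := by simpa using hcard
  obtain ⟨s, hs⟩ := Finset.card_eq_one.1 (by simpa using hS1 : S.card = 1)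
  subst hs
  have hs' : Transcendental k s := by
    have := hS.1.transcendental ⟨s, by simp⟩
    simpa using this
  refine ⟨s, hs', finite_over ⟨x, hx, hfin⟩ hs', ?_⟩
  rw [Finset.coe_singleton] at hsep
  exact hsep

theorem exists_separating [PerfectField k] (hK : IsFF0 k K) :
    ∃ s : K, Transcendental k s ∧ FiniteDimensional (IntermediateField.adjoin k ({s} : Set K)) K ∧
      Algebra.IsSeparable (IntermediateField.adjoin k ({s} : Set K)) K :=
  have := essFiniteType hK
  separating_of_basis hK (exists_isTranscendenceBasis_and_isSeparable_of_perfectField k K)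

theorem hasse_of_separating
    (h : ∃ s : K, Transcendental k s ∧ FiniteDimensional (IntermediateField.adjoin k ({s} : Set K)) K ∧
      Algebra.IsSeparable (IntermediateField.adjoin k ({s} : Set K)) K) :
    ∃ (s : K) (H : K →ₐ[k] PowerSeries K), IsHasseFamily s H ∧ Transcendental k s ∧
      Algebra.IsSeparable (IntermediateField.adjoin k ({s} : Set K)) K := by
  obtain ⟨s, hs, hfin, hsep⟩ := h
  set E := IntermediateField.adjoin k ({s} : Set K)
  let φ : k[X] →ₐ[k] PowerSeries K := aeval (PowerSeries.C s + PowerSeries.X)
  have hc0 : ∀ p : k[X], PowerSeries.constantCoeff (φ p) = aeval s p := by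
    intro p
    induction p using Polynomial.induction_on' with
    | add a b ha hb => simp [ha, hb]
    | monomial n a => simp [φ, aeval_monomial, PowerSeries.algebraMap_apply]
  have hu : ∀ p : nonZeroDivisors k[X], IsUnit (φ p) := fun p => by
    rw [PowerSeries.isUnit_iff_constantCoeff, hc0, isUnit_iff_ne_zero]
    exact fun h => nonZeroDivisors.coe_ne_zero p (transcendental_iff.1 hs _ h)
  let ψ : RatFunc k →ₐ[k] PowerSeries K := IsLocalization.liftAlgHom (M := nonZeroDivisors k[X]) (f := φ) hu
  let e := RatFunc.algEquivOfTranscendental s hs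
  let ψ₀ : E →ₐ[k] PowerSeries K := ψ.comp e.symm.toAlgHom
  have hψX : ψ (RatFunc.X) = PowerSeries.C s + PowerSeries.X := by
    rw [← RatFunc.algebraMap_X]
    show IsLocalization.liftAlgHom hu (algebraMap k[X] (RatFunc k) X) = _
    rw [IsLocalization.liftAlgHom_apply, IsLocalization.lift_eq]
    simp [φ]
  have hgen : ψ₀ (IntermediateField.AdjoinSimple.gen k s) = PowerSeries.C s + PowerSeries.X := by
    show ψ (e.symm _) = _
    rw [RatFunc.algEquivOfTranscendental_symm_gen, hψX]
  have hconst : ∀ a : E, PowerSeries.constantCoeff (ψ₀ a) = (a : K) := by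
    let P : RatFunc k →+* K := (PowerSeries.constantCoeff).comp ψ.toRingHom
    let Q : RatFunc k →+* K := (algebraMap E K).comp e.toAlgHom.toRingHom
    have hPQ : P = Q := IsLocalization.ringHom_ext (nonZeroDivisors k[X]) <| RingHom.ext fun p => by
      show PowerSeries.constantCoeff (ψ (algebraMap _ _ p)) = ((e (algebraMap _ _ p) : E) : K)
      rw [show ψ (algebraMap _ _ p) = φ p from by
        show IsLocalization.liftAlgHom hu (algebraMap k[X] (RatFunc k) p) = _
        rw [IsLocalization.liftAlgHom_apply, IsLocalization.lift_eq]; rfl, hc0,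
        RatFunc.algEquivOfTranscendental_algebraMap]
      show aeval ((E.val) (IntermediateField.AdjoinSimple.gen k s)) p = E.val _
      rw [aeval_algHom_apply]
    intro a
    obtain ⟨r, rfl⟩ := e.surjective a
    show PowerSeries.constantCoeff (ψ (e.symm (e r))) = _
    rw [e.symm_apply_apply]
    exact RingHom.congr_fun hPQ r
  obtain ⟨y, hy⟩ := Field.exists_primitive_element E K
  have hyi : IsIntegral E y := Algebra.IsIntegral.isIntegral y
  let f : (PowerSeries K)[X] := (minpoly E y).map ψ₀.toRingHom
  have hfm : f.Monic := (minpoly.monic hyi).map _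
  have hcomp : (PowerSeries.constantCoeff (R := K)).comp ψ₀.toRingHom = algebraMap E K := RingHom.ext hconst
  have hev : ∀ g : E[X], PowerSeries.constantCoeff ((g.map ψ₀.toRingHom).eval (PowerSeries.C y)) = aeval y g := fun g => by
    rw [← Polynomial.eval_map_apply, Polynomial.map_map, hcomp, PowerSeries.constantCoeff_C, eval_map_algebraMap]
  obtain ⟨a, ha, ha0⟩ := HenselianRing.is_henselian (I := Ideal.span {(PowerSeries.X : PowerSeries K)}) f hfm
    (PowerSeries.C y) (by
      rw [Ideal.mem_span_singleton, PowerSeries.X_dvd_iff, hev, minpoly.aeval]) (by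
      refine IsUnit.map _ ?_
      rw [PowerSeries.isUnit_iff_constantCoeff, derivative_map, hev, isUnit_iff_ne_zero]
      exact (Algebra.IsSeparable.isSeparable E y).aeval_derivative_ne_zero (minpoly.aeval _ _))
  let _ : Algebra E (PowerSeries K) := ψ₀.toRingHom.toAlgebra
  let pb : PowerBasis E K := (IntermediateField.adjoin.powerBasis hyi).map
    ((IntermediateField.equivOfEq hy).trans IntermediateField.topEquiv)
  have hpb : pb.gen = y := rfl
  let H0 : K →ₐ[E] PowerSeries K := pb.lift a (by
    rw [hpb, ← eval_map_algebraMap]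
    exact ha)
  have hH0 : H0 y = a := by rw [← hpb]; exact pb.lift_gen a _
  let H : K →ₐ[k] PowerSeries K :=
    { H0.toRingHom with
      commutes' := fun c => by
        show H0 (algebraMap k K c) = _
        rw [IsScalarTower.algebraMap_apply k E K, H0.commutes]
        exact ψ₀.commutes c }
  refine ⟨s, H, ⟨?_, fun z => ?_⟩, hs, hsep⟩
  · show H0 s = _
    rw [show s = algebraMap E K (IntermediateField.AdjoinSimple.gen k s) from rfl, H0.commutes]
    exact hgen
  · let c0 : PowerSeries K →ₐ[E] K :=
      { (PowerSeries.constantCoeff (R := K)) with commutes' := hconst }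
    have h : c0.comp H0 = AlgHom.id E K := pb.algHom_ext (by
      show PowerSeries.constantCoeff (H0 pb.gen) = pb.gen
      rw [hpb, hH0]
      rw [Ideal.mem_span_singleton, PowerSeries.X_dvd_iff, map_sub, PowerSeries.constantCoeff_C, sub_eq_zero] at ha0
      exact ha0)
    exact AlgHom.congr_fun h z

theorem exists_hasse_separating [PerfectField k] (hK : IsFF0 k K) :
    ∃ (s : K) (H : K →ₐ[k] PowerSeries K), IsHasseFamily s H ∧ Transcendental k s ∧
      Algebra.IsSeparable (IntermediateField.adjoin k ({s} : Set K)) K :=
  hasse_of_separating (exists_separating hK)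

theorem exists_hasse [PerfectField k] (hK : IsFF0 k K) :
    ∃ (s : K) (H : K →ₐ[k] PowerSeries K), IsHasseFamily s H :=
  let ⟨s, H, h, _⟩ := exists_hasse_separating hK
  ⟨s, H, h⟩

/-- a derivation killing a separating element is zero -/
theorem derivation_eq_zero_sep {M : Type*} [AddCommGroup M] [Module K M] [Module k M] [IsScalarTower k K M]
    {s : K} [Algebra.IsSeparable (IntermediateField.adjoin k ({s} : Set K)) K]
    (δ : Derivation k K M) (hs : δ s = 0) (z : K) : δ z = 0 := by
  set E := IntermediateField.adjoin k ({s} : Set K)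
  let Z : IntermediateField k K :=
    { carrier := {z | δ z = 0}
      mul_mem' := fun {a b} (ha : δ a = 0) (hb : δ b = 0) => show δ (a * b) = 0 by simp [ha, hb]
      one_mem' := δ.map_one_eq_zero
      add_mem' := fun {a b} (ha : δ a = 0) (hb : δ b = 0) => show δ (a + b) = 0 by simp [ha, hb]
      zero_mem' := map_zero δ
      algebraMap_mem' := fun c => δ.map_algebraMap c
      inv_mem' := fun a (ha : δ a = 0) => show δ a⁻¹ = 0 by rw [δ.leibniz_inv, ha, smul_zero] }
  have hE : ∀ e : E, δ (e : K) = 0 := fun e =>
    (IntermediateField.adjoin_simple_le_iff.2 (show s ∈ Z from hs)) e.2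
  have hp : ∀ p : E[X], δ (aeval z p) = (aeval z (derivative p)) • δ z := by
    intro p
    induction p using Polynomial.induction_on' with
    | add a b ha hb => simp [ha, hb, add_smul]
    | monomial n a =>
      rw [aeval_monomial, δ.leibniz, show δ (algebraMap E K a) = 0 from hE a, smul_zero, add_zero,
        δ.leibniz_pow, derivative_monomial, aeval_monomial, map_mul, map_natCast, ← Nat.cast_smul_eq_nsmul K,
        smul_smul, smul_smul, mul_assoc]
  have h := hp (minpoly E z)
  rw [minpoly.aeval, map_zero] at h
  exact (smul_eq_zero.1 h.symm).resolve_left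
    ((Algebra.IsSeparable.isSeparable E z).aeval_derivative_ne_zero (minpoly.aeval _ _))

theorem kaehler_span {s : K} [Algebra.IsSeparable (IntermediateField.adjoin k ({s} : Set K)) K] (z : K) :
    ∃ c : K, KaehlerDifferential.D k K z = c • KaehlerDifferential.D k K s := by
  let N : Submodule K Ω[K⁄k] := Submodule.span K {KaehlerDifferential.D k K s}
  have h := derivation_eq_zero_sep (s := s) (N.mkQ.compDer (KaehlerDifferential.D k K))
    ((Submodule.Quotient.mk_eq_zero N).2 (Submodule.subset_span rfl)) z
  obtain ⟨c, hc⟩ := Submodule.mem_span_singleton.1 ((Submodule.Quotient.mk_eq_zero N).1 h)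
  exact ⟨c, hc.symm⟩

end Groth.Agent.FunFldLib
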