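import Groth.Agent.FunFldLib.Hasse.Weier
import Groth.Agent.FunFldLib.Hasse.Exists
import Groth.Agent.FunFldLib.Riemann

/-! The order of a differential `a dz`. -/

set_option autoImplicit false

open WithZero
open LocRes (hasseD IsHasseFamily IsExpansionAt)

namespace Groth.Agent.FunFldLib

open FunFld

variable {k K : Type*} [Field k] [IsAlgClosed k] [Field K] [Algebra k K] (hK : IsFunctionField k K)
  {s : K} {H : K →ₐ[k] PowerSeries K} (hH : IsHasseFamily s H)

include hK hH

omit [IsAlgClosed k] hK in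
theorem coeff_eq {z c : K} (hz : KaehlerDifferential.D k K z = c • KaehlerDifferential.D k K s) :
    hasseD H 1 z = c := by
  have h := congrArg (Hasse.deriv hH).liftKaehlerDifferential hz
  rw [map_smul, Derivation.liftKaehlerDifferential_comp_D, Derivation.liftKaehlerDifferential_comp_D,
    Hasse.deriv_apply, Hasse.deriv_apply, smul_eq_mul,
    show hasseD H 1 s = 1 by rw [LocRes.hasseD_apply, hH.1]; simp, mul_one] at h
  exact h

variable (P : Place k K) (Φ : K →ₐ[k] LaurentSeries k) (hΦ : IsExpansionAt P.1 Φ)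
include hΦ

theorem ordDiff_mul {a z c : K} (ha : a ≠ 0) (hc : c ≠ 0)
    (hz : KaehlerDifferential.D k K z = c • KaehlerDifferential.D k K s) :
    LocRes.vDiff Φ a z ≠ 0 ∧ LocRes.ordDiff Φ a z = P.ord (a * c) + LocRes.ordDiff Φ 1 s := by
  obtain ⟨t, -, ht⟩ := exists_exp (P := P) (-1)
  obtain ⟨ρ, -, -, Ht, hHt, -⟩ := exists_family hK P ht hH
  obtain ⟨ρ', -, h1, -, h2, -⟩ := change_var hK hH hHt
  have hd : hasseD Ht 1 s ≠ 0 := h2 ▸ h1
  have hzs : hasseD Ht 1 z = c * hasseD Ht 1 s := by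
    have h := congrArg (Hasse.deriv hHt).liftKaehlerDifferential hz
    simpa only [map_smul, Derivation.liftKaehlerDifferential_comp_D, Hasse.deriv_apply, smul_eq_mul] using h
  have e1 : LocRes.vDiff Φ a z = P.1 (a * c * hasseD Ht 1 s) := by
    rw [LocRes.vDiff, D_expansion hK P ht hHt Φ hΦ, map_mul, map_mul, hΦ.1, hΦ.1, vDiff_param P Φ hΦ ht, mul_one,
      ← map_mul P.1, hzs, mul_assoc]
  refine ⟨e1 ▸ v_ne_zero P (mul_ne_zero (mul_ne_zero ha hc) hd), ?_⟩
  rw [ordDiff_eq hK P ht hHt Φ hΦ, ← ord_mul P (mul_ne_zero ha hc) hd, LocRes.ordDiff, e1]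
  rfl

omit P Φ hΦ in
theorem divDiff_apply {Φ : Place k K → (K →ₐ[k] LaurentSeries k)} (hΦ : ∀ P : Place k K, IsExpansionAt P.1 (Φ P))
    {a z c : K} (ha : a ≠ 0) (hc : c ≠ 0)
    (hz : KaehlerDifferential.D k K z = c • KaehlerDifferential.D k K s) (P : Place k K) :
    divDiff Φ a z P = P.ord (a * c) + LocRes.ordDiff (Φ P) 1 s := by
  classical
  have he : ∀ Q : Place k K, LocRes.ordDiff (Φ Q) a z = Q.ord (a * c) + LocRes.ordDiff (Φ Q) 1 s :=
    fun Q => (ordDiff_mul hK hH Q (Φ Q) (hΦ Q) ha hc hz).2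
  have hfin : (Function.support fun Q : Place k K => LocRes.ordDiff (Φ Q) a z).Finite := by
    simp only [he]
    exact ((finite_ord_support hK.1 (a * c)).union (finite_divDiff hK hH hΦ)).subset
      (Function.support_add _ _)
  rw [divDiff, dif_pos hfin, Finsupp.ofSupportFinite_coe]
  exact he P

end Groth.Agent.FunFldLib
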