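import Groth.Agent.FunFldLib.Hasse.Global
import Mathlib.LinearAlgebra.Matrix.Block

/-! Divisors attached to tuples and to the differential of a local parameter. -/

set_option autoImplicit false

open WithZero
open LocRes (IsExpansionAt)

namespace Groth.Agent.FunFldLib

open FunFld

variable {k K : Type*} [Field k] [Field K] [Algebra k K] (P : Place k K)

theorem binom_self_det (R : Type*) [Field R] {n : ℕ} (J : Fin n → ℕ) (hJ : StrictMono J) :
    (binomMat R J J).det = 1 := by
  rw [Matrix.det_of_lowerTriangular (binomMat R J J) fun i j hij => by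
    have : i < j := OrderDual.toDual_lt_toDual.1 hij
    simp [binomMat, Nat.choose_eq_zero_of_lt (hJ this)]]
  simp [binomMat]

theorem ordDiff_param (Φ : K →ₐ[k] LaurentSeries k) (hΦ : IsExpansionAt P.1 Φ) {t : K}
    (ht : P.1 t = exp (-1)) : LocRes.ordDiff Φ 1 t = 0 := by
  set f := Φ t with hf
  have hv : Valued.v f = exp (-1) := by rw [hf, hΦ.1, ht]
  have h1 : f.coeff 1 ≠ 0 := by
    intro h
    have hle : Valued.v f ≤ exp (-((2 : ℕ) : ℤ)) := by
      rw [LaurentSeries.valuation_le_iff_coeff_lt_eq_zero]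
      intro n hn
      rcases (show n ≤ 0 ∨ n = 1 by omega) with h' | rfl
      · exact LaurentSeries.coeff_zero_of_lt_valuation k (D := 1) hv.le (by omega)
      · exact h
    rw [hv, exp_le_exp] at hle
    omega
  have hd : Valued.v (LocRes.D k f) = 1 := by
    apply le_antisymm
    · rw [← exp_zero, ← neg_zero, LaurentSeries.valuation_le_iff_coeff_lt_eq_zero]
      intro n hn
      rw [LocRes.D_coeff]
      rcases (show n + 1 < 1 ∨ n + 1 = 0 by omega) with h' | h'
      · rw [LaurentSeries.coeff_zero_of_lt_valuation k (D := 1) hv.le h', smul_zero]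
      · rw [h', zero_smul]
    · by_contra hlt
      rw [not_le, lt_one_iff_le] at hlt
      have := LaurentSeries.coeff_zero_of_lt_valuation k (D := 1) hlt (show (0 : ℤ) < 1 by omega)
      rw [LocRes.D_coeff] at this
      simp only [zero_add, one_smul] at this
      exact h1 this
  rw [LocRes.ordDiff, LocRes.vDiff, map_one, one_mul, hd]
  simp

theorem mapDiv_zero {ι : Type*} [Fintype ι] [Nonempty ι] (φ : ι → K)
    (hle : ∀ i, P.1 (φ i) ≤ 1) (h : ∃ i, P.1 (φ i) = 1) : mapDiv k φ P = 0 := by
  classical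
  unfold mapDiv
  split_ifs
  · rw [Finsupp.ofSupportFinite_coe, neg_eq_zero]
    obtain ⟨i, hi⟩ := h
    refine le_antisymm ((Finset.inf'_le _ (Finset.mem_univ i)).trans_eq (by simp [Place.ord, hi])) ?_
    refine Finset.le_inf' _ _ fun j _ => ?_
    rcases eq_or_ne (φ j) 0 with h0 | h0
    · simp [Place.ord, h0]
    · exact (v_le_one_iff P h0).1 (hle j)
  · rfl

theorem exists_v_one {ι : Type*} [Fintype ι] (φ : ι → K) (heff : (1 : K) ∈ Submodule.span k (Set.range φ))
    (hle : ∀ i, P.1 (φ i) ≤ 1) : ∃ i, P.1 (φ i) = 1 := by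
  by_contra h
  push Not at h
  obtain ⟨a, ha⟩ := (Submodule.mem_span_range_iff_exists_fun k).1 heff
  have := Valuation.map_sum_lt P.1 (s := Finset.univ) (f := fun i => a i • φ i) one_ne_zero
    fun i _ => (smul_le P _ _).trans_lt (lt_of_le_of_ne (hle i) (h i))
  rw [ha, map_one] at this
  exact lt_irrefl _ this

theorem divDiff_apply_zero (Φ : Place k K → (K →ₐ[k] LaurentSeries k)) (hΦ : IsExpansionAt P.1 (Φ P))
    {t : K} (ht : P.1 t = exp (-1)) : divDiff Φ 1 t P = 0 := by
  classical
  unfold divDiff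
  split_ifs
  · rw [Finsupp.ofSupportFinite_coe]
    exact ordDiff_param P _ hΦ ht
  · rfl

end Groth.Agent.FunFldLib
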