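import Groth.Agent.FunFldLib.Hasse.Change

/-! Taylor expansions at a place. -/

set_option autoImplicit false

open WithZero
open LocRes (hasseD IsHasseFamily IsExpansionAt)

namespace Groth.Agent.FunFldLib

open FunFld

variable {k K : Type*} [Field k] [IsAlgClosed k] [Field K] [Algebra k K]

theorem exists_expansion (hK : IsFunctionField k K) {s : K} {H : K →ₐ[k] PowerSeries K}
    (hH : IsHasseFamily s H) (P : Place k K) :
    ∃ Φ : K →ₐ[k] LaurentSeries k, IsExpansionAt P.1 Φ := by
  obtain ⟨t, ht0, ht⟩ := exists_exp (P := P) (-1)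
  obtain ⟨ρ, -, -, Ht, hHt, -⟩ := exists_family hK P ht hH
  let e := RingEquiv.ofBijective (algebraMap k (IsLocalRing.ResidueField P.O)) (residue_bij hK P)
  let r : P.O →+* k := (e.symm : IsLocalRing.ResidueField P.O →+* k).comp (IsLocalRing.residue P.O)
  have hr : ∀ c : k, r (algebraMap k P.O c) = c := fun c => e.symm_apply_apply c
  have hint : ∀ (z : P.O) (j : ℕ), P.1 (hasseD Ht j (z : K)) ≤ 1 := fun z j => hD_int hK P hHt ht z.2 j
  let S : P.O → PowerSeries k := fun z => PowerSeries.mk fun j => r ⟨hasseD Ht j (z : K), hint z j⟩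
  have hS1 : S 1 = 1 := by
    ext j
    simp only [S, PowerSeries.coeff_mk, PowerSeries.coeff_one]
    have : (⟨hasseD Ht j ((1 : P.O) : K), hint 1 j⟩ : P.O) = if j = 0 then 1 else 0 := by
      apply Subtype.ext
      show hasseD Ht j (1 : K) = _
      rw [Hasse.hD_one]; split_ifs <;> rfl
    rw [this]; split_ifs <;> simp
  have hSmul : ∀ a b, S (a * b) = S a * S b := fun a b => by
    ext j
    simp only [S, PowerSeries.coeff_mk, PowerSeries.coeff_mul, ← map_mul, ← map_sum]
    congr 1
    apply Subtype.ext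
    rw [AddSubmonoidClass.coe_finsetSum]
    exact Hasse.hD_mul Ht j (a : K) (b : K)
  have hSadd : ∀ a b, S (a + b) = S a + S b := fun a b => by
    ext j
    simp only [S, PowerSeries.coeff_mk, map_add]
    rw [← map_add r]
    congr 1
    exact Subtype.ext (Hasse.hD_add Ht j (a : K) (b : K))
  have hSC : ∀ c : k, S (algebraMap k P.O c) = PowerSeries.C c := fun c => by
    ext j
    simp only [S, PowerSeries.coeff_mk, PowerSeries.coeff_C]
    have : (⟨hasseD Ht j ((algebraMap k P.O c : P.O) : K), hint _ j⟩ : P.O) = if j = 0 then algebraMap k P.O c else 0 := by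
      apply Subtype.ext
      show hasseD Ht j (algebraMap k K c) = _
      rw [Hasse.hD_algebraMap]; split_ifs <;> rfl
    rw [this]; split_ifs <;> simp [hr]
  have hS0 : S 0 = 0 := by simpa using hSadd 0 0
  let g : P.O →+* LaurentSeries k := (HahnSeries.ofPowerSeries ℤ k).comp
    { toFun := S, map_one' := hS1, map_mul' := hSmul, map_add' := hSadd, map_zero' := hS0 }
  have ht1 : P.1 t ≤ 1 := by rw [ht, ← exp_zero]; exact exp_le_exp.2 (by omega)
  set T : P.O := ⟨t, (Valuation.mem_valuationSubring_iff P.1 t).2 ht1⟩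
  have hST : S T = PowerSeries.X := by
    ext j
    simp only [S, PowerSeries.coeff_mk, PowerSeries.coeff_X]
    have h : hasseD Ht j (T : K) = if j = 0 then t else if j = 1 then 1 else 0 := by
      show hasseD Ht j t = _
      rw [LocRes.hasseD_apply, hHt.1, map_add, PowerSeries.coeff_C, PowerSeries.coeff_X]
      rcases j with - | - | j <;> simp
    rcases j with - | - | j
    · rw [if_neg (by omega)]
      show e.symm (IsLocalRing.residue P.O _) = 0
      rw [(residue_eq_zero_iff P _).2 ?_, map_zero]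
      show P.1 (hasseD Ht 0 (T : K)) < 1
      rw [h, if_pos rfl, ht, ← exp_zero, exp_lt_exp]; omega
    · rw [if_pos rfl, show (⟨hasseD Ht (0 + 1) (T : K), hint T _⟩ : P.O) = 1 from Subtype.ext (show hasseD Ht (0 + 1) (T : K) = 1 by rw [h]; simp)]
      exact map_one r
    · rw [if_neg (by omega), show (⟨hasseD Ht (j + 1 + 1) (T : K), hint T _⟩ : P.O) = 0 from Subtype.ext (show hasseD Ht (j + 1 + 1) (T : K) = 0 by rw [h]; simp)]
      exact map_zero r
  have hunit : ∀ z : P.O, P.1 (z : K) = 1 → (Valued.v (g z) : WithZero (Multiplicative ℤ)) = 1 := by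
    intro z hz
    have h0 : PowerSeries.constantCoeff (S z) ≠ 0 := by
      rw [← PowerSeries.coeff_zero_eq_constantCoeff_apply]
      simp only [S, PowerSeries.coeff_mk]
      show e.symm (IsLocalRing.residue P.O _) ≠ 0
      rw [ne_eq, map_eq_zero, residue_eq_zero_iff]
      show ¬ P.1 (hasseD Ht 0 (z : K)) < 1
      rw [Hasse.hD_zero hHt, hz]; exact lt_irrefl _
    apply le_antisymm
    · rw [← exp_zero, ← neg_zero, LaurentSeries.valuation_le_iff_coeff_lt_eq_zero]
      intro n hn
      show ((S z : PowerSeries k) : LaurentSeries k).coeff n = 0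
      rw [PowerSeries.coeff_coe, if_pos hn]
    · by_contra hlt
      rw [not_le, lt_one_iff_le] at hlt
      have h1 := LaurentSeries.coeff_zero_of_lt_valuation k (D := 1) hlt (show (0 : ℤ) < 1 by omega)
      change ((S z : PowerSeries k) : LaurentSeries k).coeff 0 = 0 at h1
      rw [PowerSeries.coeff_coe, if_neg (lt_irrefl _), Int.natAbs_zero, PowerSeries.coeff_zero_eq_constantCoeff_apply] at h1
      exact h0 h1
  have hXv : (Valued.v ((PowerSeries.X : PowerSeries k) : LaurentSeries k) : WithZero (Multiplicative ℤ)) = exp (-1) := by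
    rw [PowerSeries.coe_X]
    simpa using LaurentSeries.valuation_single_zpow k 1
  have hgval : ∀ z : P.O, (Valued.v (g z) : WithZero (Multiplicative ℤ)) = P.1 (z : K) := by
    intro z
    rcases eq_or_ne (z : K) 0 with h | h
    · rw [show z = 0 from Subtype.ext h, map_zero, map_zero]
      exact (map_zero P.1).symm
    obtain ⟨m, hm⟩ := Int.eq_ofNat_of_zero_le ((v_le_one_iff P h).1 z.2)
    have hv : P.1 (z : K) = exp (-(m : ℤ)) := by rw [v_eq_exp P h, hm]
    obtain ⟨u, hu, he⟩ := exists_unit_part P ht hv.le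
    have hu1 : P.1 u = 1 := by
      rw [he, map_mul, v_pow P ht] at hv
      exact mul_left_cancel₀ exp_ne_zero (hv.trans (mul_one _).symm)
    set U : P.O := ⟨u, (Valuation.mem_valuationSubring_iff P.1 u).2 hu⟩
    have hz : z = T ^ m * U := Subtype.ext he
    rw [hz, map_mul, map_pow, map_mul, map_pow, hunit U hu1, mul_one]
    show (Valued.v (((S T : PowerSeries k) : LaurentSeries k))) ^ m = _
    rw [hST, hXv, ← exp_nsmul]
    show _ = P.1 (t ^ m * u)
    rw [map_mul, hu1, mul_one, v_pow P ht]
    simp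
  have hginj : Function.Injective g := by
    rw [injective_iff_map_eq_zero]
    intro z hz
    have h := hgval z
    rw [hz, map_zero] at h
    exact Subtype.ext ((map_eq_zero P.1).1 h.symm)
  let Φ0 : K →+* LaurentSeries k := IsFractionRing.lift hginj
  have hΦ : ∀ z : P.O, Φ0 (z : K) = g z := fun z => IsFractionRing.lift_algebraMap hginj z
  let Φ : K →ₐ[k] LaurentSeries k :=
    { Φ0 with
      commutes' := fun c => by
        show Φ0 ((algebraMap k P.O c : P.O) : K) = _
        rw [hΦ]
        show ((S (algebraMap k P.O c) : PowerSeries k) : LaurentSeries k) = _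
        rw [hSC, LocRes.algebraMap_eq_C, HahnSeries.ofPowerSeries_C] }
  refine ⟨Φ, fun f => ?_, fun a => ⟨algebraMap k K a, P.2.1 a, ?_⟩, t, ht⟩
  · show Valued.v (Φ0 f) = P.1 f
    obtain ⟨m, a, ha, he⟩ := exists_frac P f ht
    have h1 : Valued.v (Φ0 (f * t ^ m)) = P.1 (f * t ^ m) := by
      rw [he, show a = ((⟨a, (Valuation.mem_valuationSubring_iff P.1 a).2 ha⟩ : P.O) : K) from rfl, hΦ, hgval]
    rw [map_mul, map_mul, map_mul, map_pow Φ0, show t = (T : K) from rfl, hΦ, map_pow, map_pow, hgval] at h1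
    exact mul_right_cancel₀ (pow_ne_zero _ (v_ne_zero P ht0)) h1
  · rw [Φ.commutes, LocRes.algebraMap_eq_C]
    simp

end Groth.Agent.FunFldLib
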