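import Groth.Agent.FunFldLib.Hasse.Exists
import Mathlib.FieldTheory.IsAlgClosed.AlgebraicClosure
import Mathlib.RingTheory.TensorProduct.Free
import Mathlib.LinearAlgebra.TensorProduct.Basis
import Mathlib.RingTheory.TensorProduct.Maps
import Mathlib.RingTheory.Flat.Basic

/-! Geometric function fields are separably generated. -/

set_option autoImplicit false

universe u

open LocRes (IsHasseFamily)
open scoped TensorProduct

namespace Groth.Agent.FunFldLib

open FunFld

variable {k : Type u} {K : Type*} [Field k] [Field K] [Algebra k K]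

theorem linearIndepOn_pow_of_geometric (hg : IsGeometric k K) {p : ℕ} (hp : p.Prime) [CharP k p]
    (S : Finset K) (hS : LinearIndepOn k _root_.id (S : Set K)) : LinearIndepOn k (· ^ p) (S : Set K) := by
  classical
  have hS' : LinearIndependent k (fun i : (S : Set K) => (i : K)) := hS
  refine linearIndependent_iff'.2 fun T c hc i hi => ?_
  have hroot : ∀ j, ∃ b : AlgebraicClosure k, b ^ p = algebraMap k (AlgebraicClosure k) (c j) :=
    fun j => IsAlgClosed.exists_pow_nat_eq _ hp.pos
  choose b hb using hroot
  set k' := IntermediateField.adjoin k (b '' (T : Set (S : Set K)))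
  have : Finite (b '' (T : Set (S : Set K))) := (T.finite_toSet.image b).to_subtype
  have hfin : FiniteDimensional k k' := IntermediateField.finiteDimensional_adjoin
    (fun x _ => Algebra.IsIntegral.isIntegral x)
  letI hF := (hg k' hfin).toField
  have : CharP (k' ⊗[k] K) p := charP_of_injective_algebraMap (algebraMap k (k' ⊗[k] K)).injective p
  have : Fact p.Prime := ⟨hp⟩
  let β : ((S : Set K) : Type _) → k' := fun j => if h : j ∈ T then ⟨b j, IntermediateField.subset_adjoin k _ ⟨j, h, rfl⟩⟩ else 0
  let z : k' ⊗[k] K := ∑ j ∈ T, β j ⊗ₜ (j : K)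
  have hβ : ∀ j ∈ T, β j ^ p = algebraMap k k' (c j) := fun j hj => Subtype.ext (by
    simp only [β, dif_pos hj]; exact hb j)
  have hz : z ^ p = 0 := by
    simp only [z, sum_pow_char p]
    have e : ∀ j ∈ T, (β j ⊗ₜ[k] (j : K)) ^ p = (1 : k') ⊗ₜ[k] (c j • (j : K) ^ p) := fun j hj => by
      rw [Algebra.TensorProduct.tmul_pow, hβ j hj, Algebra.algebraMap_eq_smul_one, TensorProduct.smul_tmul]
    rw [Finset.sum_congr rfl e, ← TensorProduct.tmul_sum]
    rw [show ∑ j ∈ T, c j • (j : K) ^ p = 0 from hc, TensorProduct.tmul_zero]
  have hz0 : z = 0 := eq_zero_of_pow_eq_zero hz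
  have hli : LinearIndependent k' fun j : (S : Set K) => (1 : k') ⊗ₜ[k] (j : K) := by
    let f : ((S : Set K) →₀ k) →ₗ[k] K := Finsupp.linearCombination k (fun j : (S : Set K) => (j : K))
    let bS : Module.Basis (S : Set K) k ((S : Set K) →₀ k) := Finsupp.basisSingleOne
    have h1 := ((bS.baseChange k').linearIndependent).map' (f.baseChange k')
      (LinearMap.ker_eq_bot.2 (Module.Flat.lTensor_preserves_injective_linearMap f hS'))
    simpa [Function.comp_def, f, bS] using h1
  have h2 := linearIndependent_iff'.1 hli T β (by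
    simpa [TensorProduct.smul_tmul', z] using hz0) i hi
  have h3 := hβ i hi
  rw [h2, zero_pow hp.ne_zero] at h3
  exact (map_eq_zero _).1 h3.symm

theorem exists_separating_of_geometric (hK : IsFF0 k K) (hg : IsGeometric k K) :
    ∃ s : K, Transcendental k s ∧ FiniteDimensional (IntermediateField.adjoin k ({s} : Set K)) K ∧
      Algebra.IsSeparable (IntermediateField.adjoin k ({s} : Set K)) K := by
  rcases CharP.exists' k with h0 | ⟨p, hp, hpk⟩
  · exact exists_separating hK
  · have := essFiniteType hK
    have : ExpChar k p := .prime hp.out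
    exact separating_of_basis hK
      (exists_isTranscendenceBasis_and_isSeparable_of_linearIndepOn_pow_of_essFiniteType p hp.out
        (linearIndepOn_pow_of_geometric hg hp.out))

theorem exists_hasse_of_geometric (hK : IsFF0 k K) (hg : IsGeometric k K) :
    ∃ (s : K) (H : K →ₐ[k] PowerSeries K), IsHasseFamily s H ∧ Transcendental k s ∧
      Algebra.IsSeparable (IntermediateField.adjoin k ({s} : Set K)) K :=
  hasse_of_separating (exists_separating_of_geometric hK hg)

end Groth.Agent.FunFldLib
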