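import Groth.Agent.FunFldLib.Hasse.Det

/-! Orders of a tuple with respect to an endomorphism. -/

set_option autoImplicit false

open WithZero Submodule Matrix
open LocRes (hasseD IsHasseFamily)

namespace Groth.Agent.FunFldLib

open FunFld

variable {k K : Type*} [Field k] [Field K] [Algebra k K]
variable {τ : K →ₐ[k] K} {H : K →ₐ[k] PowerSeries K}

/-- the columns of a nonsingular minor bound the orders -/
theorem orders_le_of_minor {n q : ℕ} (φ : Fin (n + 1) → K) {J : Fin n → ℕ}
    (hJ : IsOrders K (hcol τ H φ) J) (M : Matrix (Fin (q + 1)) (Fin (n + 1)) k) (I : Fin q → ℕ) (N : ℕ)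
    (hI : ∀ x, I x ≤ N) (hdet : (wrMat τ H (fun i => ∑ l, M i l • φ l) I).det ≠ 0)
    (l : Fin n) (hl : (l : ℕ) < q) : J l ≤ N := by
  refine Jumps.orders_le _ hJ N l ?_
  set f : Fin (q + 1) → ℕ := fun x => Fin.cases 0 (fun y => I y + 1) x with hf
  have h1 : LinearIndependent K fun x => hcol τ H (fun i => ∑ j, M i j • φ j) (f x) := by
    have := linearIndependent_cols_of_det_ne_zero hdet
    rw [wrMat_eq] at this
    exact this
  have h2 : LinearIndependent K fun x => hcol τ H φ (f x) := by
    refine LinearIndependent.of_comp (M.map (algebraMap k K)).mulVecLin ?_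
    convert h1 using 1
    funext x
    exact (hcol_map τ H φ M (f x)).symm
  have h3 : span K (Set.range fun x => hcol τ H φ (f x)) ≤ span K (hcol τ H φ '' Set.Iio (N + 2)) :=
    span_mono <| by
      rintro _ ⟨x, rfl⟩
      refine ⟨f x, ?_, rfl⟩
      cases x using Fin.cases with
      | zero => exact Nat.succ_pos _
      | succ y =>
        show I y + 1 < N + 2
        have := hI y
        omega
  have := Submodule.finrank_mono h3
  rw [finrank_span_eq_card h2, Fintype.card_fin] at this
  omega

/-- minimality of the orders -/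
theorem orders_le_of_det {n : ℕ} (φ : Fin (n + 1) → K) {J : Fin n → ℕ}
    (hJ : IsOrders K (hcol τ H φ) J) (I : Fin n → ℕ) (hI : StrictMono I)
    (hdet : (wrMat τ H φ I).det ≠ 0) (l : Fin n) : J l ≤ I l := by
  refine Jumps.orders_le _ hJ (I l) l ?_
  have h1 : LinearIndependent K fun x : Fin (n + 1) => hcol τ H φ (Fin.cases 0 (fun y => I y + 1) x) := by
    have := linearIndependent_cols_of_det_ne_zero hdet
    rw [wrMat_eq] at this
    exact this
  have h2 : LinearIndependent K fun x : Fin ((l : ℕ) + 2) =>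
      hcol τ H φ (Fin.cases 0 (fun y => I y + 1) (Fin.castLE (by omega) x : Fin (n + 1))) :=
    h1.comp _ (Fin.castLE_injective _)
  have h3 := Submodule.finrank_mono (R := K) (span_mono (R := K) (t := hcol τ H φ '' Set.Iio (I l + 2)) (by
    rintro _ ⟨x, rfl⟩
    refine ⟨_, ?_, rfl⟩
    cases x using Fin.cases with
    | zero => exact Nat.succ_pos _
    | succ y =>
      rw [show (Fin.castLE (by omega) y.succ : Fin (n + 1)) = (Fin.castLE (by omega) y : Fin n).succ
        from rfl, Fin.cases_succ]
      have h4 : I (Fin.castLE (by omega) y) ≤ I l := hI.monotone (Fin.mk_le_mk.2 (by omega))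
      exact Set.mem_Iio.2 (by omega)) :
    span K (Set.range fun x : Fin ((l : ℕ) + 2) =>
      hcol τ H φ (Fin.cases 0 (fun y => I y + 1) (Fin.castLE (by omega) x : Fin (n + 1)))) ≤ _)
  rw [finrank_span_eq_card h2, Fintype.card_fin] at h3
  exact h3

theorem tau_ne_zero {n : ℕ} {φ : Fin (n + 1) → K} (hφ : LinearIndependent k φ) :
    hcol τ H φ 0 ≠ 0 := fun h =>
  hφ.ne_zero 0 ((map_eq_zero τ).1 (congrFun h 0))

variable [IsAlgClosed k] (hK : IsFunctionField k K) {s : K} (hH : IsHasseFamily s H)
include hK hH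

omit [IsAlgClosed k] hH in
theorem finite_poles (x : K) : {P : Place k K | ¬P.1 x ≤ 1}.Finite := by
  refine (finite_ord_support hK.1 x).subset fun P hP => ?_
  rw [Function.mem_support]
  intro h
  rcases eq_or_ne x 0 with rfl | hx
  · exact hP (by simp)
  · exact hP ((v_le_one_iff P hx).2 h.ge)

/-- at almost every place a translate of `s` is a local parameter -/
theorem finite_bad : {P : Place k K | ¬∃ c : k, P.1 (s - algebraMap k K c) = exp (-1)}.Finite := by
  classical
  obtain ⟨x, hx0, -⟩ : ∃ x : K, x ≠ 0 ∧ True := ⟨1, one_ne_zero, trivial⟩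
  obtain ⟨P0⟩ := nonempty_place hK.1
  obtain ⟨E, hE0, hEd, -, hsep⟩ := exists_separates hK P0
  have := finite_L hK.1 E
  let b := Module.finBasis k (FunFld.L E)
  let φ : Fin (Module.finrank k (FunFld.L E)) → K := fun i => b i
  have hspan : span k (Set.range φ) = FunFld.L E := by
    have h := congrArg (Submodule.map (FunFld.L E).subtype) b.span_eq
    rw [Submodule.map_span, Submodule.map_subtype_top, ← Set.range_comp] at h
    exact h
  refine (((finite_poles hK s).union E.support.finite_toSet).union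
    (Set.finite_iUnion fun i => finite_poles hK (hasseD H 1 (φ i)))).subset fun P hP => ?_
  by_contra hgood
  simp only [Set.mem_union, Set.mem_iUnion, Set.mem_ofPred_eq, not_or, not_not, not_exists,
    Finset.mem_coe, Finsupp.notMem_support_iff] at hgood
  obtain ⟨⟨hs, hE⟩, hb⟩ := hgood
  apply hP
  obtain ⟨c, hc⟩ := exists_res hK P hs
  refine ⟨c, le_antisymm ((lt_one_iff_exp P _).1 hc) (le_of_not_gt fun hlt => ?_)⟩
  rw [lt_exp_iff] at hlt
  have hint : ∀ z, P.1 z ≤ 1 → P.1 (Hasse.deriv hH z) ≤ 1 := fun z hz =>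
    deriv_integral hK hsep hE0 hEd (Hasse.deriv hH) φ hspan P hE hb hz
  have h1 := deriv_order P (Hasse.deriv hH) hint (n := 2) (hlt.trans_eq (by norm_num))
  have h2 : Hasse.deriv hH (s - algebraMap k K c) = 1 := by
    rw [Hasse.deriv_apply, LocRes.hasseD_apply, (Hasse.shift hH c).1, map_add, PowerSeries.coeff_C,
      PowerSeries.coeff_one_X]
    simp
  rw [h2, map_one, ← exp_zero, exp_le_exp] at h1
  omega

omit [IsAlgClosed k] hH in
theorem infinite_places : (Set.univ : Set (Place k K)).Infinite := by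
  intro hfin
  classical
  obtain ⟨y, hy⟩ := approx_eq hfin.toFinset (fun _ => (0 : K)) (fun _ => -1)
  have hy' : ∀ P : Place k K, P.1 y = exp (-1) := fun P => by
    simpa using hy P (hfin.mem_toFinset.2 trivial)
  obtain ⟨P0⟩ := nonempty_place hK.1
  have hyk : y ∉ Set.range (algebraMap k K) := by
    rintro ⟨c, rfl⟩
    have h := hy' P0
    rcases eq_or_ne c 0 with rfl | hc
    · rw [map_zero, map_zero] at h
      exact exp_ne_zero h.symm
    · rw [v_algebraMap P0 hc, ← exp_zero] at h
      have := exp_injective h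
      omega
  obtain ⟨Q, hQ⟩ := exists_pole hK hyk
  rw [Place.ord, hy', log_exp] at hQ
  omega

/-- the Hasse derivatives of independent functions span -/
theorem span_hcol {n : ℕ} {φ : Fin (n + 1) → K} (hφ : LinearIndependent k φ) (τ : K →ₐ[k] K) :
    span K (Set.range (hcol τ H φ)) = ⊤ := by
  classical
  by_contra hne
  obtain ⟨F, hF, hF0⟩ := Submodule.exists_dual_map_eq_bot_of_lt_top (lt_top_iff_ne_top.2 hne) inferInstance
  let a : Fin (n + 1) → K := fun r => F (Pi.single r 1)
  have hFx : ∀ x : Fin (n + 1) → K, F x = ∑ r, a r * x r := fun x => by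
    conv_lhs => rw [pi_eq_sum_univ' x]
    rw [map_sum]
    exact Finset.sum_congr rfl fun i _ => by rw [map_smul, smul_eq_mul, mul_comm]
  obtain ⟨i0, hi0⟩ : ∃ i, a i ≠ 0 := by
    by_contra h
    push Not at h
    exact hF (LinearMap.ext fun x => by simp [hFx, h])
  obtain ⟨P, -, hP⟩ := (infinite_places hK).exists_notMem_finite
    ((((finite_bad hK hH).union (Set.finite_iUnion fun i => finite_poles hK (φ i))).union
      (Set.finite_iUnion fun i => finite_poles hK (a i))).union (finite_poles hK (a i0)⁻¹))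
  simp only [Set.mem_union, Set.mem_iUnion, Set.mem_ofPred_eq, not_or, not_not, not_exists] at hP
  obtain ⟨⟨⟨hc', hφi⟩, hai⟩, hinv⟩ := hP
  obtain ⟨c, hc⟩ : ∃ c : k, P.1 (s - algebraMap k K c) = exp (-1) := by
    by_contra h
    exact hc' (not_exists.1 h)
  set t := s - algebraMap k K c
  have hHt : IsHasseFamily t H := Hasse.shift hH c
  choose b hb using fun i => exists_res hK P (hai i)
  set f := ∑ i, b i • φ i with hf
  have hb0 : b i0 ≠ 0 := by
    intro h
    have h1 := hb i0
    rw [h, map_zero, sub_zero] at h1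
    rw [map_inv₀] at hinv
    have h2 : P.1 (a i0) ≠ 0 := v_ne_zero P hi0
    exact absurd ((inv_le_one₀ (zero_lt_iff.2 h2)).1 hinv) (not_le.2 h1)
  have hf0 : f ≠ 0 := fun h => hb0 (Fintype.linearIndependent_iff.1 hφ b h i0)
  obtain ⟨m, cm, hcm, hfm, hlead⟩ := exists_order hK P hc hf0
    (Valuation.map_sum_le _ fun i _ => (smul_le P _ _).trans (hφi i))
  have h1 := evalP_hD hK P hc hHt hlead le_rfl
  rw [if_pos rfl] at h1
  have h2 : P.1 (hasseD H m f) < 1 := by
    have h3 : ∑ i, a i * hasseD H m (φ i) = 0 := by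
      have := (Submodule.eq_bot_iff _).1 hF0 _ ⟨hcol τ H φ (m + 1), subset_span ⟨_, rfl⟩, rfl⟩
      rwa [hFx] at this
    have h4 : hasseD H m f = -∑ i, (a i - algebraMap k K (b i)) * hasseD H m (φ i) := by
      rw [hf, Hasse.hD_sum]
      simp only [Hasse.hD_smul]
      simp only [sub_mul, Finset.sum_sub_distrib, h3, zero_sub, neg_neg, Algebra.smul_def]
    rw [h4, Valuation.map_neg]
    refine Valuation.map_sum_lt _ one_ne_zero fun i _ => ?_
    rw [map_mul]
    exact (mul_le_mul' le_rfl (hD_int hK P hHt hc (hφi i) m)).trans_lt (by rw [mul_one]; exact hb i)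
  have h5 := (evalP_eq_iff P h2.le (0 : k)).2 (by rwa [map_zero, sub_zero])
  rw [h5, map_zero] at h1
  exact hcm ((map_eq_zero _).1 h1.symm)

theorem exists_orders_hcol {n : ℕ} {φ : Fin (n + 1) → K} (hφ : LinearIndependent k φ) (τ : K →ₐ[k] K) :
    ∃ J : Fin n → ℕ, IsOrders K (hcol τ H φ) J ∧ (wrMat τ H φ J).det ≠ 0 := by
  obtain ⟨J, hJ, hli⟩ := Jumps.exists_orders (n := n) _ (by simp) (tau_ne_zero hφ) (span_hcol hK hH hφ τ)
  refine ⟨J, hJ, ?_⟩
  have : LinearIndependent K (wrMat τ H φ J).col := by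
    rw [wrMat_eq]
    exact hli
  exact ((isUnit_iff_isUnit_det _).1 (linearIndependent_cols_iff_isUnit.1 this)).ne_zero

end Groth.Agent.FunFldLib
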