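import Groth.Prelude.Def_W4bk4goldsch45p2
import Mathlib.LinearAlgebra.Dimension.Constructions
import Mathlib.LinearAlgebra.FiniteDimensional.Basic
import Mathlib.LinearAlgebra.Dual.Lemmas
import Mathlib.Data.Finset.Sort

/-! Jump indices of a sequence of vectors. -/

set_option autoImplicit false

open Submodule

namespace Groth.Agent.FunFldLib.Jumps

open FunFld

variable {R M : Type*} [Field R] [AddCommGroup M] [Module R M] (c : ℕ → M)

theorem span_jumps (m : ℕ) :
    span R (c '' Set.Iio m) = span R (c '' {i | i < m ∧ IsJump R c i}) := by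
  refine le_antisymm ?_ (span_mono (Set.image_mono fun i hi => hi.1))
  induction m with
  | zero => simp
  | succ m ih =>
    have hle : span R (c '' {i | i < m ∧ IsJump R c i}) ≤ span R (c '' {i | i < m + 1 ∧ IsJump R c i}) :=
      span_mono (Set.image_mono fun i hi => ⟨Nat.lt_succ_of_lt hi.1, hi.2⟩)
    rw [span_le]
    rintro _ ⟨i, hi, rfl⟩
    rcases (Nat.lt_succ_iff_lt_or_eq).1 (show i < m + 1 from hi) with h | rfl
    · exact hle (ih (subset_span ⟨i, h, rfl⟩))
    · by_cases hj : IsJump R c i
      · exact subset_span ⟨i, ⟨Nat.lt_succ_self i, hj⟩, rfl⟩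
      · exact hle (ih (not_not.1 hj))

theorem orders_le [FiniteDimensional R M] {n : ℕ} {J : Fin n → ℕ} (hJ : IsOrders R c J) (N : ℕ) (l : Fin n)
    (h : (l : ℕ) + 2 ≤ Module.finrank R (span R (c '' Set.Iio (N + 2)))) : J l ≤ N := by
  classical
  by_contra hlt
  push Not at hlt
  set S : Finset ℕ := insert 0 ((Finset.univ.filter fun l' : Fin n => J l' ≤ N).image fun l' => J l' + 1)
  have hsub : c '' {i | i < N + 2 ∧ IsJump R c i} ⊆ ((S.image c : Finset M) : Set M) := by
    rintro _ ⟨i, ⟨hi, hij⟩, rfl⟩
    rw [Finset.coe_image]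
    refine ⟨i, ?_, rfl⟩
    rcases i with - | j
    · exact Finset.mem_insert_self _ _
    · obtain ⟨l', rfl⟩ := (hJ.2 j).2 hij
      exact Finset.mem_insert_of_mem (Finset.mem_image.2 ⟨l', Finset.mem_filter.2 ⟨Finset.mem_univ _, by omega⟩, rfl⟩)
  have h1 : Module.finrank R (span R (c '' Set.Iio (N + 2))) ≤ S.card := by
    rw [span_jumps]
    have := finrank_span_finset_le_card (R := R) (S.image c)
    exact ((Submodule.finrank_mono (span_mono hsub)).trans this).trans Finset.card_image_le
  have h2 : (Finset.univ.filter fun l' : Fin n => J l' ≤ N) ⊆ Finset.Iio l := fun l' hl' => by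
    rw [Finset.mem_filter] at hl'
    exact Finset.mem_Iio.2 (hJ.1.lt_iff_lt.1 (hl'.2.trans_lt hlt))
  have h3 := Finset.card_le_card h2
  rw [Fin.card_Iio] at h3
  have h4 : S.card ≤ (l : ℕ) + 1 :=
    (Finset.card_insert_le _ _).trans (Nat.succ_le_succ (Finset.card_image_le.trans h3))
  omega

theorem li_jumps (S : Finset ℕ) (hS : ∀ i ∈ S, IsJump R c i) : LinearIndepOn R c (S : Set ℕ) := by
  classical
  induction S using Finset.induction_on_max with
  | empty => simp
  | insert a s hmax ih =>
    rw [Finset.coe_insert]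
    refine (ih fun i hi => hS i (Finset.mem_insert_of_mem hi)).insert fun h => ?_
    exact hS a (Finset.mem_insert_self a s) (span_mono (Set.image_mono fun i hi => hmax i hi) h)

theorem exists_orders [FiniteDimensional R M] {n : ℕ} (hM : Module.finrank R M = n + 1)
    (h0 : c 0 ≠ 0) (htop : span R (Set.range c) = ⊤) :
    ∃ J : Fin n → ℕ, IsOrders R c J ∧
      LinearIndependent R (fun x : Fin (n + 1) => c (Fin.cases 0 (fun l => J l + 1) x)) := by
  classical
  have hcard : ∀ S : Finset ℕ, (∀ i ∈ S, IsJump R c i) → S.card ≤ n + 1 := fun S hS => by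
    have h : LinearIndependent R (fun i : S => c i) := li_jumps c S hS
    simpa [hM] using h.fintype_card_le_finrank
  have hfin : {i | IsJump R c i}.Finite := by
    by_contra hinf
    obtain ⟨S, hS, hc⟩ := Set.Infinite.exists_subset_card_eq hinf (n + 2)
    have := hcard S hS
    omega
  set T := hfin.toFinset with hT
  have hTmem : ∀ i, i ∈ T ↔ IsJump R c i := fun i => hfin.mem_toFinset
  have hTcard : T.card = n + 1 := by
    refine le_antisymm (hcard T fun i hi => (hTmem i).1 hi) ?_
    have hle : (⊤ : Submodule R M) ≤ span R ((T.image c : Finset M) : Set M) := by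
      rw [← htop, span_le]
      rintro _ ⟨i, rfl⟩
      have h1 : c i ∈ span R (c '' Set.Iio (i + 1)) := subset_span ⟨i, Nat.lt_succ_self i, rfl⟩
      rw [span_jumps] at h1
      refine span_mono ?_ h1
      rw [Finset.coe_image]
      exact Set.image_mono fun x hx => (hTmem x).2 hx.2
    have := (Submodule.finrank_mono hle).trans (finrank_span_finset_le_card (T.image c))
    rw [finrank_top, hM] at this
    exact this.trans Finset.card_image_le
  have h0T : 0 ∈ T := (hTmem 0).2 (by simpa [IsJump] using h0)
  have hU : (T.erase 0).card = n := by rw [Finset.card_erase_of_mem h0T, hTcard]; rfl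
  have hpos : ∀ i ∈ T.erase 0, 0 < i := fun i hi => Nat.pos_of_ne_zero (Finset.ne_of_mem_erase hi)
  set e := (T.erase 0).orderEmbOfFin hU with he
  have hmem : ∀ l, e l ∈ T.erase 0 := fun l => Finset.orderEmbOfFin_mem _ hU l
  refine ⟨fun l => e l - 1, ⟨fun a b hab => ?_, fun j => ⟨?_, fun hj => ?_⟩⟩, ?_⟩
  · have := e.strictMono hab
    have := hpos _ (hmem a)
    show e a - 1 < e b - 1
    omega
  · rintro ⟨l, rfl⟩
    have := hpos _ (hmem l)
    rw [Nat.sub_add_cancel this]
    exact (hTmem _).1 (Finset.mem_of_mem_erase (hmem l))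
  · have : j + 1 ∈ T.erase 0 := Finset.mem_erase.2 ⟨Nat.succ_ne_zero j, (hTmem _).2 hj⟩
    rw [← Finset.image_orderEmbOfFin_univ _ hU] at this
    obtain ⟨l, -, hl⟩ := Finset.mem_image.1 this
    exact ⟨l, by show e l - 1 = j; rw [he, hl]; rfl⟩
  · have hinj : Function.Injective
        (fun x : Fin (n + 1) => (Fin.cases 0 (fun l => e l - 1 + 1) x : ℕ)) := by
      intro a b hab
      cases a using Fin.cases <;> cases b using Fin.cases
      · rfl
      · simp at hab
      · simp at hab
      · rename_i a b
        have := hpos _ (hmem a)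
        have := hpos _ (hmem b)
        simp only [Fin.cases_succ] at hab
        rw [e.injective (show e a = e b by omega)]
    have hin : ∀ x : Fin (n + 1), (Fin.cases 0 (fun l => e l - 1 + 1) x : ℕ) ∈ T := by
      intro x
      cases x using Fin.cases
      · exact h0T
      · rename_i l
        simp only [Fin.cases_succ]
        rw [Nat.sub_add_cancel (hpos _ (hmem l))]
        exact Finset.mem_of_mem_erase (hmem l)
    exact (li_jumps c T fun i hi => (hTmem i).1 hi).comp (fun x => (⟨_, hin x⟩ : (T : Set ℕ)))
      fun a b hab => hinj (congrArg Subtype.val hab)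

end Groth.Agent.FunFldLib.Jumps
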