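import Groth.Agent.FunFldLib.Hasse.Basic
import Groth.Agent.FunFldLib.Hasse.Jumps

/-! Orders at a place and adapted bases. -/

set_option autoImplicit false

open WithZero Submodule
open LocRes (hasseD IsHasseFamily)

namespace Groth.Agent.FunFldLib

open FunFld

variable {k K : Type*} [Field k] [Field K] [Algebra k K]
variable [IsAlgClosed k] (hK : IsFunctionField k K) (P : Place k K)
variable {t : K} {Ht : K →ₐ[k] PowerSeries K}

omit [IsAlgClosed k] in
theorem evalP_sum_smul {n : ℕ} (a : Fin n → k) (z : Fin n → K) (hz : ∀ i, P.1 (z i) ≤ 1) :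
    evalP P (∑ i, a i • z i) = ∑ i, algebraMap k (IsLocalRing.ResidueField P.O) (a i) * evalP P (z i) := by
  have hi : P.1 (∑ i, a i • z i) ≤ 1 := Valuation.map_sum_le _ fun i _ => (smul_le P _ _).trans (hz i)
  simp only [evalP_def P hi, evalP_def P (hz _)]
  rw [Finset.sum_congr rfl (fun i _ => show algebraMap k (IsLocalRing.ResidueField P.O) (a i) *
    IsLocalRing.residue P.O ⟨z i, hz i⟩ =
      IsLocalRing.residue P.O (algebraMap k P.O (a i) * ⟨z i, hz i⟩) by
    rw [map_mul, residue_algebraMap]), ← map_sum]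
  congr 1
  apply Subtype.ext
  rw [AddSubmonoidClass.coe_finsetSum]
  show ∑ i, a i • z i = ∑ i, algebraMap k K (a i) * z i
  exact Finset.sum_congr rfl fun i _ => Algebra.smul_def (a i) (z i)

include hK

section
variable (ht : P.1 t = exp (-1)) (hHt : IsHasseFamily t Ht)
include ht hHt

/-- values of Hasse derivatives below and at the order -/
theorem evalP_hD {f : K} {m : ℕ} {c : k}
    (hf : P.1 (f - algebraMap k K c * t ^ m) ≤ exp (-((m : ℤ) + 1))) {i : ℕ} (hi : i ≤ m) :
    evalP P (hasseD Ht i f) = algebraMap k _ (if i = m then c else 0) := by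
  have h1 : P.1 f ≤ exp (-(m : ℤ)) := by
    rw [show f = (f - algebraMap k K c * t ^ m) + algebraMap k K c * t ^ m by ring]
    refine (P.1.map_add _ _).trans (max_le (hf.trans (exp_le_exp.2 (by omega))) ?_)
    rw [← Algebra.smul_def]
    exact (smul_le P _ _).trans (v_pow P ht m).le
  rw [evalP_eq_iff P (hD_int hK P hHt ht (h1.trans (by rw [← exp_zero]; exact exp_le_exp.2 (by omega))) i)]
  split_ifs with him
  · subst him
    have := hD_lead hK P hHt ht hf i
    rw [Nat.choose_self, Nat.sub_self, pow_zero, Nat.cast_one, one_mul, mul_one] at this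
    exact this.trans_lt (by rw [← exp_zero]; exact exp_lt_exp.2 (by omega))
  · rw [map_zero, sub_zero]
    exact (hD_order hK P hHt ht h1 i).trans_lt (by rw [← exp_zero]; exact exp_lt_exp.2 (by omega))

omit hHt in
theorem exists_order {f : K} (hf0 : f ≠ 0) (hf : P.1 f ≤ 1) :
    ∃ (m : ℕ) (c : k), c ≠ 0 ∧ P.1 f = exp (-(m : ℤ)) ∧
      P.1 (f - algebraMap k K c * t ^ m) ≤ exp (-((m : ℤ) + 1)) := by
  have h1 := v_eq_exp P hf0
  obtain ⟨m, hm⟩ := Int.eq_ofNat_of_zero_le ((v_le_one_iff P hf0).1 hf)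
  rw [hm] at h1
  obtain ⟨c, hc⟩ := exists_lead hK P ht h1.le
  refine ⟨m, c, fun hc0 => ?_, h1, hc⟩
  rw [hc0, map_zero, zero_mul, sub_zero, h1, exp_le_exp] at hc
  omega

theorem eq_order_of_values {f : K} (hf : P.1 f ≤ 1) {j : ℕ}
    (hlt : ∀ i, i < j → evalP P (hasseD Ht i f) = 0) (hj : evalP P (hasseD Ht j f) ≠ 0) :
    P.1 f = exp (-(j : ℤ)) := by
  have hf0 : f ≠ 0 := by
    rintro rfl
    apply hj
    rw [Hasse.hD_map_zero]
    simpa using (evalP_eq_iff P (z := (0 : K)) (by simp) 0).2 (by simp)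
  obtain ⟨m, c, hc, hm, hlead⟩ := exists_order hK P ht hf0 hf
  rcases lt_trichotomy m j with h | rfl | h
  · have := evalP_hD hK P ht hHt hlead le_rfl
    rw [if_pos rfl, hlt m h] at this
    exact absurd ((map_eq_zero _).1 this.symm) hc
  · exact hm
  · have := evalP_hD hK P ht hHt hlead h.le
    rw [if_neg h.ne, map_zero] at this
    exact absurd this hj

theorem jump_iff {n : ℕ} (φ : Fin n → K) (hnorm : ∀ i, P.1 (φ i) ≤ 1) (j : ℕ) :
    IsJump (IsLocalRing.ResidueField P.O) (hcolAt P Ht φ) (j + 1) ↔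
      0 < j ∧ ∃ f ∈ span k (Set.range φ), P.1 f = exp (-(j : ℤ)) := by
  have h01 : hcolAt P Ht φ 0 = hcolAt P Ht φ 1 := funext fun i => by
    show evalP P (φ i) = evalP P (hasseD Ht 0 (φ i))
    rw [Hasse.hD_zero hHt]
  have hI : ∀ i l, P.1 (hasseD Ht l (φ i)) ≤ 1 := fun i l => hD_int hK P hHt ht (hnorm i) l
  have hval : ∀ (a : Fin n → k) (i : ℕ), ∑ l, algebraMap k _ (a l) * hcolAt P Ht φ (i + 1) l =
      evalP P (hasseD Ht i (∑ l, a l • φ l)) := fun a i => by
    rw [Hasse.hD_sum, Finset.sum_congr rfl (fun l _ => Hasse.hD_smul Ht i (a l) (φ l)),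
      evalP_sum_smul P a _ fun l => hI l i]
    rfl
  constructor
  · intro hj
    rcases Nat.eq_zero_or_pos j with rfl | hpos
    · exact (hj (subset_span ⟨0, Nat.lt_succ_self 0, h01⟩)).elim
    refine ⟨hpos, ?_⟩
    obtain ⟨F, hF1, hF2⟩ := Submodule.exists_dual_map_eq_bot_of_notMem hj inferInstance
    choose a ha using fun i : Fin n => (residue_bij hK P).2 (F (Pi.single i 1))
    have hFx : ∀ x : Fin n → IsLocalRing.ResidueField P.O, F x = ∑ i, algebraMap k _ (a i) * x i := fun x => by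
      conv_lhs => rw [pi_eq_sum_univ' x]
      rw [map_sum]
      refine Finset.sum_congr rfl fun i _ => ?_
      rw [map_smul, smul_eq_mul, ha, mul_comm]
    refine ⟨∑ l, a l • φ l, sum_mem fun l _ => smul_mem _ _ (subset_span ⟨l, rfl⟩),
      eq_order_of_values hK P ht hHt (Valuation.map_sum_le _ fun i _ => (smul_le P _ _).trans (hnorm i))
        (fun i hi => ?_) ?_⟩
    · rw [← hval, ← hFx]
      exact (Submodule.eq_bot_iff _).1 hF2 _ ⟨_, subset_span ⟨i + 1, Nat.succ_lt_succ hi, rfl⟩, rfl⟩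
    · rw [← hval, ← hFx]
      exact hF1
  · rintro ⟨hpos, f, hf, hfj⟩ hmem
    obtain ⟨a, rfl⟩ := (mem_span_range_iff_exists_fun k).1 hf
    obtain ⟨c, hc⟩ := exists_lead hK P ht hfj.le
    have hc0 : c ≠ 0 := by
      rintro rfl
      rw [map_zero, zero_mul, sub_zero, hfj, exp_le_exp] at hc
      omega
    let F : (Fin n → IsLocalRing.ResidueField P.O) →ₗ[IsLocalRing.ResidueField P.O]
        IsLocalRing.ResidueField P.O :=
      ∑ l, algebraMap k (IsLocalRing.ResidueField P.O) (a l) • LinearMap.proj l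
    have hFx : ∀ x, F x = ∑ i, algebraMap k _ (a i) * x i := fun x => by simp [F]
    have h0 : ∀ i < j + 1, F (hcolAt P Ht φ i) = 0 := by
      intro i hi
      obtain ⟨i', hi', he⟩ : ∃ i', i' < j ∧ hcolAt P Ht φ i = hcolAt P Ht φ (i' + 1) := by
        rcases i with - | i
        · exact ⟨0, hpos, h01⟩
        · exact ⟨i, by omega, rfl⟩
      rw [hFx, he, hval, evalP_hD hK P ht hHt hc hi'.le, if_neg hi'.ne, map_zero]
    have h1 : span (IsLocalRing.ResidueField P.O) (hcolAt P Ht φ '' Set.Iio (j + 1)) ≤ LinearMap.ker F :=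
      span_le.2 (by rintro _ ⟨i, hi, rfl⟩; exact h0 i hi)
    have h2 := h1 hmem
    rw [LinearMap.mem_ker, hFx, hval, evalP_hD hK P ht hHt hc le_rfl, if_pos rfl, map_eq_zero] at h2
    exact hc0 h2

variable {n : ℕ} {φ : Fin (n + 1) → K} (hφ : LinearIndependent k φ)
    (heff : (1 : K) ∈ span k (Set.range φ)) (hnorm : ∀ i, P.1 (φ i) ≤ 1)
    {J : Fin n → ℕ} (hJ : IsOrders (IsLocalRing.ResidueField P.O) (hcolAt P Ht φ) J)
include hJ hnorm

theorem order_pos (l : Fin n) : 0 < J l :=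
  ((jump_iff hK P ht hHt φ hnorm (J l)).1 ((hJ.2 _).1 ⟨l, rfl⟩)).1

include heff

theorem order_iff (j : ℕ) :
    (j = 0 ∨ j ∈ Set.range J) ↔ ∃ f ∈ span k (Set.range φ), P.1 f = exp (-(j : ℤ)) := by
  rw [hJ.2, jump_iff hK P ht hHt φ hnorm]
  rcases Nat.eq_zero_or_pos j with rfl | hj
  · simp only [true_or, true_iff]
    exact ⟨1, heff, by simp⟩
  · simp only [hj.ne', false_or, hj, true_and]

include hφ

/-- a basis adapted to the orders -/
theorem exists_adapted : ∃ φ' : Fin (n + 1) → K, span k (Set.range φ') = span k (Set.range φ) ∧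
    LinearIndependent k φ' ∧ φ' 0 = 1 ∧
    ∀ l : Fin n, P.1 (φ' l.succ) = exp (-(J l : ℤ)) ∧
      P.1 (φ' l.succ - t ^ J l) ≤ exp (-((J l : ℤ) + 1)) := by
  have h : ∀ l : Fin n, ∃ g ∈ span k (Set.range φ), P.1 g = exp (-(J l : ℤ)) ∧
      P.1 (g - t ^ J l) ≤ exp (-((J l : ℤ) + 1)) := by
    intro l
    obtain ⟨f, hf, hfv⟩ := (order_iff hK P ht hHt heff hnorm hJ (J l)).1 (Or.inr ⟨l, rfl⟩)
    obtain ⟨c, hc⟩ := exists_lead hK P ht hfv.le
    have hc0 : c ≠ 0 := by
      rintro rfl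
      rw [map_zero, zero_mul, sub_zero, hfv, exp_le_exp] at hc
      omega
    refine ⟨c⁻¹ • f, smul_mem _ _ hf, ?_, ?_⟩
    · rw [Algebra.smul_def, map_mul, v_algebraMap P (inv_ne_zero hc0), one_mul, hfv]
    · have : c⁻¹ • f - t ^ J l = c⁻¹ • (f - algebraMap k K c * t ^ J l) := by
        rw [smul_sub, ← Algebra.smul_def, smul_smul, inv_mul_cancel₀ hc0, one_smul]
      rw [this]
      exact (smul_le P _ _).trans hc
  choose g hg hgv hgl using h
  let φ' : Fin (n + 1) → K := Fin.cases 1 g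
  have hle : span k (Set.range φ') ≤ span k (Set.range φ) := span_le.2 <| by
    rintro _ ⟨i, rfl⟩
    cases i using Fin.cases
    · exact heff
    · exact hg _
  have hord : ∀ i, φ' i ≠ 0 ∧ P.ord (φ' i) = ((Fin.cases 0 J i : ℕ) : ℤ) := by
    intro i
    cases i using Fin.cases
    · exact ⟨one_ne_zero, by simp [φ', ord_one]⟩
    · rename_i l
      refine ⟨fun h => ?_, by show P.ord (g l) = _; rw [Place.ord, hgv, log_exp, neg_neg]; rfl⟩
      have h' : P.1 (g l) = 0 := by rw [show g l = 0 from h, map_zero]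
      rw [hgv] at h'
      exact exp_ne_zero h'
  have hli : LinearIndependent k φ' := by
    refine linearIndependent_of_ord P φ' (fun i => (hord i).1) fun a b hab => ?_
    simp only [(hord _).2, Nat.cast_inj] at hab
    have hpos := order_pos hK P ht hHt hnorm hJ
    cases a using Fin.cases <;> cases b using Fin.cases
    · rfl
    · exact absurd hab (hpos _).ne
    · exact absurd hab.symm (hpos _).ne
    · exact congrArg _ (hJ.1.injective hab)
  have : FiniteDimensional k ↥(span k (Set.range φ)) := FiniteDimensional.span_of_finite k (Set.finite_range φ)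
  refine ⟨φ', Submodule.eq_of_le_of_finrank_eq hle ?_, hli, rfl, fun l => ⟨hgv l, hgl l⟩⟩
  rw [finrank_span_eq_card hli, finrank_span_eq_card hφ]

end

end Groth.Agent.FunFldLib
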